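import Groth.Agent.L10.TopCech
import Groth.Agent.L00.ModSiteTensor
import Groth.Prelude.Def_ToposFin2
import Mathlib.Algebra.Category.ModuleCat.Presheaf.Colimits
import Mathlib.CategoryTheory.Abelian.RightDerived
import Mathlib.Algebra.Homology.ShortComplex.Ab

/-! Totally acyclic sheaves have no cohomology with supports; `toSheaf` is exact. -/

set_option autoImplicit false

namespace Groth.L15.ExtSupp

open CategoryTheory CategoryTheory.Limits Abelian
open Groth.L10 Groth.L10.SiteFr Groth.L00.ModSiteTensor

universe u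

variable {C : Type u} [SmallCategory C] {J : GrothendieckTopology C}

theorem subsingleton_ext_of_iso {A : Type*} [Category A] [Abelian A] [HasExt.{u} A] {X Y F : A} (e : X ≅ Y) {n : ℕ}
    [Subsingleton (Ext X F n)] : Subsingleton (Ext Y F n) :=
  ⟨fun a b => by
    have h : (Ext.mk₀ e.hom).comp a (zero_add n) = (Ext.mk₀ e.hom).comp b (zero_add n) := Subsingleton.elim _ _
    have h2 := congrArg (fun x => (Ext.mk₀ e.inv).comp x (zero_add n)) h
    simpa only [Ext.mk₀_comp_mk₀_assoc, Iso.inv_hom_id, Ext.mk₀_id_comp] using h2⟩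

theorem subsingleton_ext_quotZ {F : Sheaf J AddCommGrpCat.{u}} (hF : CohCx.IsTotallyAcyclic F)
    (X : Sheaf J (Type u)) (p : ℕ) : Subsingleton (Ext (ToposFin.quotZ X) F (p + 1)) := by
  let t := terminal.from X
  let π := (fr J).map (Sheaf.toImage t)
  let j := (fr J).map (Sheaf.imageι t)
  have hp : ∀ V, Mono (((sheafToPresheaf J (Type u)).map (Sheaf.imageι t)).app V) := fun V => inferInstance
  haveI : ∀ V, Mono ((Functor.whiskerRight (Sheaf.imageι t).hom AddCommGrpCat.free.{u}).app V) := fun V => by
    have := hp V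
    exact inferInstanceAs (Mono (AddCommGrpCat.free.map (((sheafToPresheaf J (Type u)).map (Sheaf.imageι t)).app V)))
  haveI : Mono (Functor.whiskerRight (Sheaf.imageι t).hom AddCommGrpCat.free.{u}) := NatTrans.mono_of_mono_app _
  haveI : Mono j := (presheafToSheaf J AddCommGrpCat.{u}).map_mono _
  haveI : (fr J).IsLeftAdjoint := (SiteFr.adj J).isLeftAdjoint
  haveI : Epi π := inferInstanceAs (Epi ((fr J).map (Sheaf.toImage t)))
  have hfac : π ≫ j = (ToposFin.freeAb J).map t := by
    show (fr J).map _ ≫ (fr J).map _ = _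
    rw [← Functor.map_comp, Sheaf.toImage_ι]
  have hw : j ≫ cokernel.π ((ToposFin.freeAb J).map t) = 0 := by
    rw [← cancel_epi π, ← Category.assoc, hfac, comp_zero]
    exact cokernel.condition _
  let S : ShortComplex (Sheaf J AddCommGrpCat.{u}) := ShortComplex.mk j (cokernel.π _) hw
  have hS : S.ShortExact :=
    { exact := ShortComplex.exact_of_g_is_cokernel _
        (CokernelCofork.IsColimit.ofπ' _ _ fun {T} k hk =>
          ⟨cokernel.desc _ k (by rw [← hfac, Category.assoc, hk, comp_zero]), cokernel.π_desc _ _ _⟩)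
      mono_f := inferInstance
      epi_g := inferInstanceAs (Epi (cokernel.π _)) }
  have h2 : ∀ m, Subsingleton (Ext S.X₂ F (m + 1)) := fun m => hF _ m
  refine ⟨fun a b => sub_eq_zero.1 ?_⟩
  have key : ∀ x : Ext S.X₃ F (p + 1), x = 0 := fun x => by
    obtain ⟨y, hy⟩ := Ext.contravariant_sequence_exact₃ hS F x (Subsingleton.elim _ _) (n₀ := p) (by omega)
    cases p with
    | zero =>
      obtain ⟨b, hb⟩ := Nerve.surjective_restrict hF (Sheaf.imageι t) (Ext.addEquiv₀ y)
      have : y = (Ext.mk₀ S.f).comp (Ext.mk₀ b) (zero_add 0) := by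
        rw [Ext.mk₀_comp_mk₀]
        apply Ext.addEquiv₀.injective
        exact hb.symm.trans (Ext.addEquiv₀.apply_symm_apply _).symm
      rw [← hy, this, ShortComplex.ShortExact.extClass_comp_assoc]
    | succ m =>
      haveI : Subsingleton (Ext S.X₁ F (m + 1)) := hF _ m
      rw [← hy, Subsingleton.elim y 0, Ext.comp_zero]
  exact key (a - b)

section ToSheaf

variable {O : Sheaf J CommRingCat.{u}}

instance preservesFiniteColimits_toSheaf :
    PreservesFiniteColimits (SheafOfModules.toSheaf.{u} (ModSite.ringSh O)) where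
  preservesFiniteColimits K₀ _ _ :=
    ⟨fun {K} =>
      haveI : PreservesFiniteColimits (presheafToSheaf J AddCommGrpCat.{u}) :=
        haveI := (sheafificationAdjunction J AddCommGrpCat.{u}).isLeftAdjoint
        inferInstance
      haveI : PreservesFiniteColimits (shf O ⋙ SheafOfModules.toSheaf (ModSite.ringSh O)) :=
        @preservesFiniteColimits_of_natIso _ _ _ _ _ _
          (PresheafOfModules.sheafificationCompToSheaf (𝟙 (ModSite.ringSh O).obj)).symm
          (@comp_preservesFiniteColimits _ _ _ _ _ _ _ _ (PresheafOfModules.Finite.toPresheaf_preservesFiniteColimits _) inferInstance)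
      preservesColimit_of_reflective (shfAdj O) _ K⟩

/-- An exact functor commutes with derived functors. -/
noncomputable def rightDerivedCompExact {A B D : Type*} [Category A] [Abelian A] [HasInjectiveResolutions A]
    [Category B] [Abelian B] [Category D] [Abelian D] (F : A ⥤ B) [F.Additive] (G : B ⥤ D) [G.Additive]
    [G.PreservesHomology] (q : ℕ) (X : A) :
    ((F ⋙ G).rightDerived q).obj X ≅ G.obj ((F.rightDerived q).obj X) :=
  (injectiveResolution X).isoRightDerivedObj (F ⋙ G) q ≪≫
    ((((F.mapHomologicalComplex _).obj (injectiveResolution X).cocomplex).sc q).mapHomologyIso G) ≪≫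
      G.mapIso ((injectiveResolution X).isoRightDerivedObj F q).symm

end ToSheaf

end Groth.L15.ExtSupp
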