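import Groth.Prelude.Def_ExtSupp
import Mathlib.Algebra.Category.ModuleCat.Presheaf.Submodule
import Mathlib.CategoryTheory.Adjunction.Additive
import Mathlib.CategoryTheory.Preadditive.Injective.Basic

/-! `F ↦ F/F_U` is exact and left adjoint to sections with supports. -/

set_option autoImplicit false

namespace Groth.L15.ExtSupp

open CategoryTheory CategoryTheory.Limits Opposite

universe u

variable {C : Type u} [SmallCategory C] {J : GrothendieckTopology C} {O : Sheaf J CommRingCat.{u}} (U : C)

/-- Restriction of a section. -/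
noncomputable abbrev res (F : ModSite.Mod O) {V W : C} (g : W ⟶ V) (x : ModSite.sect F V) : ModSite.sect F W :=
  F.val.map g.op x

theorem sect_ext (F : ModSite.Mod O) {V : C} (S : Sieve V) (hS : S ∈ J V) (x y : ModSite.sect F V)
    (h : ∀ ⦃W : C⦄ (g : W ⟶ V), S g → res F g x = res F g y) : x = y := by
  have hF := ((Presheaf.isSheaf_iff_isSheaf_forget J _ (forget AddCommGrpCat.{u})).1 F.isSheaf)
  exact ((isSheaf_iff_isSheaf_of_type _ _).1 hF S hS).isSeparatedFor.ext h

theorem res_natural {F G : ModSite.Mod O} (f : F ⟶ G) {V W : C} (g : W ⟶ V) (x : ModSite.sect F V) :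
    res G g (f.val.app (op V) x) = f.val.app (op W) (res F g x) :=
  (PresheafOfModules.naturality_apply f.val g.op x).symm

variable (O) in
/-- Sections living over the open generated by `U`. -/
noncomputable def overSub (M : ModSite.Mod O) : PresheafOfModules.Submodule M.val where
  obj X := ⨆ (_ : Nonempty (X.unop ⟶ U)), ⊤
  map {X Y} f := iSup_le fun ⟨g⟩ => by
    intro x _
    have hY : Nonempty (Y.unop ⟶ U) := ⟨f.unop ≫ g⟩
    show _ ∈ (⨆ (_ : Nonempty (Y.unop ⟶ U)), ⊤ : Submodule _ _)
    rw [iSup_pos hY]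
    exact Submodule.mem_top

theorem overSub_of_hom (M : ModSite.Mod O) {V : C} (g : V ⟶ U) (x : ModSite.sect M V) :
    x ∈ (overSub O U M).obj (op V) := by
  show _ ∈ (⨆ (_ : Nonempty (V ⟶ U)), ⊤ : Submodule _ _)
  rw [iSup_pos ⟨g⟩]
  exact Submodule.mem_top

theorem overSub_cases (M : ModSite.Mod O) {V : C} {x : ModSite.sect M V} (hx : x ∈ (overSub O U M).obj (op V)) :
    Nonempty (V ⟶ U) ∨ x = 0 := by
  by_cases h : Nonempty (V ⟶ U)
  · exact Or.inl h
  · refine Or.inr ?_
    have h' : x ∈ (⨆ (_ : Nonempty (V ⟶ U)), ⊤ : Submodule _ _) := hx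
    rwa [iSup_neg h, Submodule.mem_bot] at h'

/-- Quotient presheaf by a submodule. -/
noncomputable def presheafQuot {R : Cᵒᵖ ⥤ RingCat.{u}} {M : PresheafOfModules.{u} R} (N : M.Submodule) :
    PresheafOfModules.{u} R where
  obj X := ModuleCat.of (R.obj X) (M.obj X ⧸ N.obj X)
  map {X Y} f := ModuleCat.semilinearMapAddEquiv _ _ _ <|
    Submodule.mapQ (N.obj X) (N.obj Y) (M.restrictₛₗ f) (N.map f)
  map_id X := by
    ext x
    exact congrArg (fun y => (Submodule.Quotient.mk y : M.obj X ⧸ N.obj X))
      (by simp <;> rfl : (M.map (𝟙 X)) x = x)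
  map_comp {X Y Z} f g := by
    ext x
    exact congrArg (fun y => (Submodule.Quotient.mk y : M.obj Z ⧸ N.obj Z))
      (by simp <;> rfl : (M.map (f ≫ g)) x = M.map g (M.map f x))

/-- The quotient map. -/
noncomputable def presheafQuotπ {R : Cᵒᵖ ⥤ RingCat.{u}} {M : PresheafOfModules.{u} R} (N : M.Submodule) :
    M ⟶ presheafQuot N where
  app X := ModuleCat.ofHom (N.obj X).mkQ
  naturality f := by
    ext x
    rfl

variable (O) in
/-- `M` modulo the subsheaf of sections living over `U`. -/
noncomputable def awayMap (M : ModSite.Mod O) :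
    M ⟶ (ModSite.sheafify O).obj (presheafQuot (overSub O U M)) :=
  ⟨presheafQuotπ (overSub O U M) ≫
    (PresheafOfModules.sheafificationAdjunction (𝟙 (ModSite.ringSh O).obj)).unit.app (presheafQuot (overSub O U M))⟩

theorem awayMap_over (M : ModSite.Mod O) {V : C} (g : V ⟶ U) (x : ModSite.sect M V) :
    (awayMap O U M).val.app (op V) x = 0 := by
  have hz : (presheafQuotπ (overSub O U M)).app (op V) x = 0 :=
    (Submodule.Quotient.mk_eq_zero _).2 (overSub_of_hom U M g x)
  show ((PresheafOfModules.sheafificationAdjunction (𝟙 (ModSite.ringSh O).obj)).unit.app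
    (presheafQuot (overSub O U M))).app (op V) ((presheafQuotπ (overSub O U M)).app (op V) x) = 0
  rw [hz]
  exact map_zero _

theorem awayMap_eq_zero (M : ModSite.Mod O) {V : C} {x : ModSite.sect M V}
    (hx : (awayMap O U M).val.app (op V) x = 0) :
    ∃ S ∈ J V, ∀ ⦃W : C⦄ (g : W ⟶ V), S g → Nonempty (W ⟶ U) ∨ res M g x = 0 := by
  let P := (presheafQuot (overSub O U M)).presheaf
  let z : ToType (P.obj (op V)) := (Submodule.Quotient.mk x : M.val.obj (op V) ⧸ (overSub O U M).obj (op V))
  have hz : (CategoryTheory.toSheafify J P).app (op V) z = (CategoryTheory.toSheafify J P).app (op V) 0 := by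
    rw [map_zero]
    exact hx
  refine ⟨_, Presheaf.equalizerSieve_mem J (CategoryTheory.toSheafify J P) z 0 hz, fun W g hg => ?_⟩
  have hg' : (Submodule.Quotient.mk (res M g x) : M.val.obj (op W) ⧸ (overSub O U M).obj (op W)) = 0 := by
    have h : P.map g.op z = P.map g.op 0 := hg
    rw [map_zero] at h
    exact h
  exact overSub_cases U M ((Submodule.Quotient.mk_eq_zero _).1 hg')

theorem restr_map_eq_zero {M Q : ModSite.Mod O} (a : M ⟶ Q)
    (h : ∀ ⦃V : C⦄ (_ : V ⟶ U) (x : ModSite.sect M V), a.val.app (op V) x = 0) :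
    (ModSite.restr O U).map a = 0 := by
  apply (SheafOfModules.toSheaf _).map_injective
  ext Y m
  exact h Y.unop.hom m

theorem counit_comp_eq_zero_iff {M Q : ModSite.Mod O} (a : M ⟶ Q) :
    (ModSite.extZeroAdj O U).counit.app M ≫ a = 0 ↔ (ModSite.restr O U).map a = 0 := by
  let adj := ModSite.extZeroAdj O U
  haveI : (ModSite.extZero O U).Additive := adj.left_adjoint_additive
  constructor
  · intro h
    have h2 := congrArg (adj.homEquiv ((ModSite.restr O U).obj M) Q) h
    rw [Adjunction.homEquiv_unit, Adjunction.homEquiv_unit, Functor.map_comp, Functor.map_zero, comp_zero,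
      ← Category.assoc, adj.right_triangle_components, Category.id_comp] at h2
    exact h2
  · intro h
    show adj.counit.app M ≫ a = 0
    have := adj.counit.naturality a
    simp only [Functor.id_map, Functor.comp_map] at this
    rw [← this, h, Functor.map_zero, zero_comp]

theorem unit_comp_eq_zero_iff [ModSite.HasPushOver O U] {M Q : ModSite.Mod O} (a : M ⟶ Q) :
    a ≫ (ModSite.restrPushOverAdj O U).unit.app Q = 0 ↔ (ModSite.restr O U).map a = 0 := by
  let adj := ModSite.restrPushOverAdj O U
  haveI : (ModSite.pushOver O U).Additive := adj.right_adjoint_additive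
  constructor
  · intro h
    have h2 := congrArg (adj.homEquiv M ((ModSite.restr O U).obj Q)).symm h
    rw [Adjunction.homEquiv_counit, Adjunction.homEquiv_counit, Functor.map_comp, Functor.map_zero, zero_comp,
      Category.assoc, adj.left_triangle_components, Category.comp_id] at h2
    exact h2
  · intro h
    show a ≫ adj.unit.app Q = 0
    have := adj.unit.naturality a
    simp only [Functor.id_map, Functor.comp_map] at this
    rw [this, h, Functor.map_zero, comp_zero]

theorem exists_sieve_of_π_eq_zero (M : ModSite.Mod O) {V : C} {x : ModSite.sect M V}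
    (hx : ((ModSite.quotOnπ O U).app M).val.app (op V) x = 0) :
    ∃ S ∈ J V, ∀ ⦃W : C⦄ (g : W ⟶ V), S g → Nonempty (W ⟶ U) ∨ res M g x = 0 := by
  refine awayMap_eq_zero U M ?_
  have h : (ModSite.extZeroAdj O U).counit.app M ≫ awayMap O U M = 0 :=
    (counit_comp_eq_zero_iff U _).2 (restr_map_eq_zero U _ fun V g x => awayMap_over U M g x)
  have hfac : (ModSite.quotOnπ O U).app M ≫ cokernel.desc _ (awayMap O U M) h = awayMap O U M :=
    cokernel.π_desc _ _ _
  rw [← hfac]
  show (cokernel.desc _ (awayMap O U M) h).val.app (op V) (((ModSite.quotOnπ O U).app M).val.app (op V) x) = 0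
  rw [hx]
  exact map_zero _

theorem val_app_injective {F G : ModSite.Mod O} (f : F ⟶ G) [Mono f] (V : C) :
    Function.Injective (f.val.app (op V)) := by
  haveI : Mono f.val := inferInstanceAs (Mono ((SheafOfModules.forget (ModSite.ringSh O)).map f))
  exact PresheafOfModules.injective_of_mono f.val _

theorem eq_zero_of_local {M' M Q K P : ModSite.Mod O} (π : M' ⟶ Q)
    (hQ : ∀ ⦃V : C⦄ (_ : V ⟶ U) (q : ModSite.sect Q V), q = 0) (ι : K ⟶ Q) [Mono ι] (i : M' ⟶ M) [Mono i]
    (fst : P ⟶ M') (snd : P ⟶ K) (hc : fst ≫ π = snd ≫ ι)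
    (h : fst ≫ i ≫ (ModSite.quotOnπ O U).app M = 0) : snd = 0 := by
  apply (SheafOfModules.toSheaf _).map_injective
  ext Y y₀
  obtain ⟨V⟩ := Y
  let y : ModSite.sect P V := y₀
  have hπ : ((ModSite.quotOnπ O U).app M).val.app (op V) (i.val.app (op V) (fst.val.app (op V) y)) = 0 :=
    congrArg (fun φ : P ⟶ (ModSite.quotOn O U).obj M => φ.val.app (op V) y) h
  obtain ⟨S, hS, hg⟩ := exists_sieve_of_π_eq_zero U M hπ
  refine sect_ext K S hS (snd.val.app (op V) y) 0 fun W g hgS => ?_
  apply val_app_injective ι W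
  rw [show res K g (0 : ModSite.sect K V) = 0 from map_zero _, map_zero, res_natural]
  have hcond : ι.val.app (op W) (snd.val.app (op W) (res P g y)) = π.val.app (op W) (fst.val.app (op W) (res P g y)) :=
    (congrArg (fun φ : P ⟶ Q => φ.val.app (op W) (res P g y)) hc).symm
  rcases hg g hgS with ⟨⟨gU⟩⟩ | h0
  · exact hQ gU _
  · rw [hcond]
    rw [res_natural, res_natural] at h0
    rw [show fst.val.app (op W) (res P g y) = 0 from val_app_injective i W (h0.trans (map_zero _).symm), map_zero]

instance preservesMonomorphisms_quotOn [ModSite.HasPushOver O U] :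
    (ModSite.quotOn O U).PreservesMonomorphisms where
  preserves {M' M} i hi := by
    let f := (ModSite.quotOn O U).map i
    let π' : M' ⟶ (ModSite.quotOn O U).obj M' := (ModSite.quotOnπ O U).app M'
    haveI : Epi π' := inferInstanceAs (Epi (cokernel.π _))
    refine Preadditive.mono_of_kernel_zero (f := f) ?_
    have h : pullback.fst π' (kernel.ι f) ≫ i ≫ (ModSite.quotOnπ O U).app M = 0 := by
      have hn : i ≫ (ModSite.quotOnπ O U).app M = π' ≫ f := (ModSite.quotOnπ O U).naturality i
      rw [hn, ← Category.assoc, pullback.condition, Category.assoc, kernel.condition, comp_zero]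
    have hsnd : pullback.snd π' (kernel.ι f) = 0 :=
      eq_zero_of_local U π' ((_root_.ExtSupp.isNullOn_iff O U _).1 (_root_.ExtSupp.isNullOn_quotOn O U M'))
        (kernel.ι f) i _ _ pullback.condition h
    haveI : Epi (pullback.snd π' (kernel.ι f)) := inferInstance
    have hz : IsZero (kernel f) := IsZero.of_epi_eq_zero _ hsnd
    exact hz.eq_of_src _ _

section Adj

variable [ModSite.HasPushOver O U] {M N : ModSite.Mod O}

set_option quotPrecheck false in
local notation "πQ" => (ModSite.quotOnπ O U).app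
set_option quotPrecheck false in
local notation "ιS" => (ModSite.sectOnι O U).app

instance epi_quotOnπ (M : ModSite.Mod O) : Epi (πQ M) := inferInstanceAs (Epi (cokernel.π _))

instance mono_sectOnι (M : ModSite.Mod O) : Mono (ιS M) := inferInstanceAs (Mono (kernel.ι _))

theorem exists_toSect (φ : (ModSite.quotOn O U).obj M ⟶ N) :
    ∃ ψ : M ⟶ (ModSite.sectOn O U).obj N, ψ ≫ ιS N = πQ M ≫ φ := by
  have hw : (πQ M ≫ φ) ≫ (ModSite.restrPushOverAdj O U).unit.app N = 0 :=
    (unit_comp_eq_zero_iff U _).2 ((counit_comp_eq_zero_iff U _).1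
      ((Category.assoc _ _ _).symm.trans ((congrArg (· ≫ φ) (cokernel.condition _)).trans zero_comp)))
  exact ⟨kernel.lift _ _ hw, kernel.lift_ι _ _ hw⟩

theorem exists_ofSect (ψ : M ⟶ (ModSite.sectOn O U).obj N) :
    ∃ φ : (ModSite.quotOn O U).obj M ⟶ N, ψ ≫ ιS N = πQ M ≫ φ := by
  have hw : (ModSite.extZeroAdj O U).counit.app M ≫ ψ ≫ ιS N = 0 :=
    (counit_comp_eq_zero_iff U _).2 ((unit_comp_eq_zero_iff U _).1
      ((Category.assoc _ _ _).trans ((congrArg (ψ ≫ ·) (kernel.condition _)).trans comp_zero)))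
  exact ⟨cokernel.desc _ _ hw, (cokernel.π_desc _ _ hw).symm⟩

/-- The bijection of the adjunction. -/
noncomputable def quotSectEquiv (M N : ModSite.Mod O) :
    ((ModSite.quotOn O U).obj M ⟶ N) ≃ (M ⟶ (ModSite.sectOn O U).obj N) where
  toFun φ := (exists_toSect U φ).choose
  invFun ψ := (exists_ofSect U ψ).choose
  left_inv φ := (cancel_epi (πQ M)).1
    (((exists_ofSect U (exists_toSect U φ).choose).choose_spec).symm.trans (exists_toSect U φ).choose_spec)
  right_inv ψ := (cancel_mono (ιS N)).1
    ((exists_toSect U (exists_ofSect U ψ).choose).choose_spec.trans (exists_ofSect U ψ).choose_spec.symm)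

theorem quotSectEquiv_spec (φ : (ModSite.quotOn O U).obj M ⟶ N) :
    quotSectEquiv U M N φ ≫ ιS N = πQ M ≫ φ :=
  (exists_toSect U φ).choose_spec

theorem quotSectEquiv_symm_spec (ψ : M ⟶ (ModSite.sectOn O U).obj N) :
    ψ ≫ ιS N = πQ M ≫ (quotSectEquiv U M N).symm ψ :=
  (exists_ofSect U ψ).choose_spec

/-- `F ↦ F/F_U` is left adjoint to sections with supports. -/
noncomputable def quotSectAdj : ModSite.quotOn O U ⊣ ModSite.sectOn O U :=
  Adjunction.mkOfHomEquiv
    { homEquiv := quotSectEquiv U
      homEquiv_naturality_left_symm := fun {M' M N} f g => by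
        apply (cancel_epi (πQ M')).1
        have hn : f ≫ πQ M = πQ M' ≫ (ModSite.quotOn O U).map f := (ModSite.quotOnπ O U).naturality f
        rw [← quotSectEquiv_symm_spec, ← Category.assoc, ← hn, Category.assoc, Category.assoc,
          ← quotSectEquiv_symm_spec]
      homEquiv_naturality_right := fun {M N N'} f g => by
        apply (cancel_mono (ιS N')).1
        have hn : (ModSite.sectOn O U).map g ≫ ιS N' = ιS N ≫ g := (ModSite.sectOnι O U).naturality g
        rw [quotSectEquiv_spec, Category.assoc, hn, ← Category.assoc, ← Category.assoc, quotSectEquiv_spec] }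

end Adj

theorem injective_sectOn [ModSite.HasPushOver O U] (I : ModSite.Mod O) [hI : Injective I] :
    Injective ((ModSite.sectOn O U).obj I) :=
  (quotSectAdj U).map_injective I hI

end Groth.L15.ExtSupp
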