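import Groth.Agent.L15.ExtSupp.HomAb

/-! Vanishing on the open passes through the tensor–hom adjunction; sections with supports of `Hom_O(M, I)`. -/

set_option autoImplicit false

namespace Groth.L15.ExtSupp

open CategoryTheory CategoryTheory.Limits Opposite MonoidalCategory
open Groth.L10 Groth.L10.SiteFr Groth.L00.ModSiteTensor Groth.L17

universe u

variable {C : Type u} [SmallCategory C] {J : GrothendieckTopology C} {O : Sheaf J CommRingCat.{u}} (U : C)

theorem val_app_eq_zero_of_restr {M N : ModSite.Mod O} (a : M ⟶ N) (h : (ModSite.restr O U).map a = 0) {V : C}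
    (g : V ⟶ U) (x : ModSite.sect M V) : a.val.app (op V) x = 0 :=
  congrArg (fun ψ : (ModSite.restr O U).obj M ⟶ (ModSite.restr O U).obj N => (ψ.val.app (op (Over.mk g))).hom x) h

/-- A map out of a sheafification vanishes over `U` as soon as its restriction to the presheaf does. -/
theorem restr_eq_zero_of_shf {P : PMo O} {N : ModSite.Mod O} (b : (shf O).obj P ⟶ N)
    (h : ∀ ⦃V : C⦄ (_ : V ⟶ U) (x : P.obj (op V)),
      b.val.app (op V) ((Groth.L00.ModSiteTensor.unit P).app (op V) x) = 0) :
    (ModSite.restr O U).map b = 0 := by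
  refine restr_map_eq_zero U b fun V g y => ?_
  refine sect_ext N _ (Presheaf.imageSieve_mem J (CategoryTheory.toSheafify J P.presheaf) (U := op V) y) _ _
    fun W f ⟨t, ht⟩ => ?_
  refine (res_natural b f y).trans ?_
  refine Eq.trans ?_ (map_zero (N.val.map f.op).hom).symm
  exact (congrArg (b.val.app (op W)) ht).symm.trans (h (f ≫ g) t)

theorem π_eq_zero_extZero (X : ModSite.Mod (O.over U)) :
    (ModSite.quotOnπ O U).app ((ModSite.extZero O U).obj X) = 0 := by
  let G := (ModSite.extZero O U).obj X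
  haveI : Epi ((ModSite.extZeroAdj O U).counit.app G) :=
    SplitEpi.epi ⟨(ModSite.extZero O U).map ((ModSite.extZeroAdj O U).unit.app X),
      (ModSite.extZeroAdj O U).left_triangle_components X⟩
  exact (cancel_epi ((ModSite.extZeroAdj O U).counit.app G)).1 ((cokernel.condition _).trans comp_zero.symm)

variable (M : ModSite.Mod O)

/-- Maps out of `j_!X ⊗ M` are determined over `U`. -/
theorem eq_zero_of_extZero_tensor (X : ModSite.Mod (O.over U)) {N : ModSite.Mod O}
    (b : ((ModSite.tensorBi O).flip.obj M).obj ((ModSite.extZero O U).obj X) ⟶ N)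
    (h : (ModSite.restr O U).map b = 0) : b = 0 := by
  let G := (ModSite.extZero O U).obj X
  let P : PMo O := (preF O).obj G ⊗ (preF O).obj M
  let b' : (shf O).obj P ⟶ N := b
  suffices h0 : Groth.L00.ModSiteTensor.unit P ≫ (preF O).map b' = 0 by
    apply (HomAcyclic.shfEquiv O N P).symm.injective
    refine Eq.trans ?_ (map_zero _).symm
    exact ((shfAdj O).homEquiv_unit P N b').trans h0
  refine PresheafOfModules.hom_ext fun V => ?_
  obtain ⟨V⟩ := V
  refine ModuleCat.MonoidalCategory.tensor_ext (R := O.obj.obj (op V)) fun g m => ?_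
  let z : P.obj (op V) := g ⊗ₜ[O.obj.obj (op V)] m
  show b'.val.app (op V) ((Groth.L00.ModSiteTensor.unit P).app (op V) z) = 0
  obtain ⟨S, hS, hg⟩ := exists_sieve_of_π_eq_zero U G (x := g) (by
    rw [π_eq_zero_extZero U X]; rfl)
  refine sect_ext N S hS (b'.val.app (op V) ((Groth.L00.ModSiteTensor.unit P).app (op V) z)) 0 fun W f hf => ?_
  refine Eq.trans ?_ (map_zero (N.val.map f.op).hom).symm
  refine (res_natural b' f _).trans ?_
  have hu : res ((shf O).obj P) f ((Groth.L00.ModSiteTensor.unit P).app (op V) z) =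
      (Groth.L00.ModSiteTensor.unit P).app (op W) (P.map f.op z) :=
    (PresheafOfModules.naturality_apply (Groth.L00.ModSiteTensor.unit P) f.op z).symm
  rw [hu]
  rcases hg f hf with ⟨⟨gU⟩⟩ | h0
  · exact val_app_eq_zero_of_restr U b' h gU _
  · have hz : P.map f.op z = 0 := by
      refine (PresheafOfModules.Monoidal.tensorObj_map_tmul f.op g m).trans ?_
      rw [show ((preF O).obj G).map f.op g = 0 from h0]
      exact TensorProduct.zero_tmul _ _
    exact ((congrArg (fun t => b'.val.app (op W) ((Groth.L00.ModSiteTensor.unit P).app (op W) t)) hz).trans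
      ((congrArg (b'.val.app (op W)) (map_zero ((Groth.L00.ModSiteTensor.unit P).app (op W)).hom)).trans
        (map_zero (b'.val.app (op W)).hom)))

variable [ModSite.HasSheafHom M]

theorem restr_adjunct_eq_zero_iff {G N : ModSite.Mod O} (φ : G ⟶ (ModSite.sheafHom M).obj N) :
    (ModSite.restr O U).map φ = 0 ↔
      (ModSite.restr O U).map (((ModSite.sheafHomAdj M).homEquiv G N).symm φ) = 0 := by
  let T := (ModSite.tensorBi O).flip.obj M
  let a := ((ModSite.sheafHomAdj M).homEquiv G N).symm φ
  constructor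
  · intro h
    refine restr_eq_zero_of_shf (P := (preF O).obj G ⊗ (preF O).obj M) U a fun V g x => ?_
    have ha : a = T.map φ ≫ (ModSite.sheafHomAdj M).counit.app N := Adjunction.homEquiv_counit (ModSite.sheafHomAdj M) G N φ
    rw [ha]
    have hn : (Groth.L00.ModSiteTensor.unit ((preF O).obj G ⊗ (preF O).obj M)) ≫ (preF O).map (T.map φ) =
        ((preF O).map φ ▷ (preF O).obj M) ≫ Groth.L00.ModSiteTensor.unit _ :=
      ((PresheafOfModules.sheafificationAdjunction (𝟙 (ModSite.ringSh O).obj)).unit.naturality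
        ((preF O).map φ ▷ (preF O).obj M)).symm
    have hx : ((preF O).map φ ▷ (preF O).obj M).app (op V) x = 0 := by
      induction x using TensorProduct.induction_on with
      | zero => exact map_zero _
      | tmul p q =>
        show ((preF O).map φ).app (op V) p ⊗ₜ q = 0
        rw [show ((preF O).map φ).app (op V) p = 0 from val_app_eq_zero_of_restr U φ h g p]
        exact TensorProduct.zero_tmul _ _
      | add p q hp hq =>
        exact (map_add (((preF O).map φ ▷ (preF O).obj M).app (op V)).hom p q).trans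
          ((congrArg₂ (· + ·) hp hq).trans (add_zero _))
    have h1 := congrArg (fun t => (ModuleCat.Hom.hom (PresheafOfModules.Hom.app t (op V))) x) hn
    show ((ModSite.sheafHomAdj M).counit.app N).val.app (op V) ((T.map φ).val.app (op V) _) = 0
    refine (congrArg _ h1).trans ?_
    show ((ModSite.sheafHomAdj M).counit.app N).val.app (op V)
      ((Groth.L00.ModSiteTensor.unit _).app (op V) (((preF O).map φ ▷ (preF O).obj M).app (op V) x)) = 0
    exact ((congrArg (fun t => ((ModSite.sheafHomAdj M).counit.app N).val.app (op V)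
      ((Groth.L00.ModSiteTensor.unit _).app (op V) t)) hx).trans
      ((congrArg (((ModSite.sheafHomAdj M).counit.app N).val.app (op V)) (map_zero ((Groth.L00.ModSiteTensor.unit _).app (op V)).hom)).trans
        (map_zero (((ModSite.sheafHomAdj M).counit.app N).val.app (op V)).hom)))
  · intro h
    rw [← counit_comp_eq_zero_iff]
    let adj := ModSite.sheafHomAdj M
    have hb : T.map ((ModSite.extZeroAdj O U).counit.app G) ≫ a = 0 :=
      eq_zero_of_extZero_tensor U M _ _ (by rw [Functor.map_comp, h, comp_zero])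
    have := congrArg (adj.homEquiv _ N) hb
    rw [adj.homEquiv_naturality_left] at this
    refine ((congrArg ((ModSite.extZeroAdj O U).counit.app G ≫ ·)
      ((adj.homEquiv G N).apply_symm_apply φ)).symm.trans this).trans ?_
    rw [Adjunction.homEquiv_unit, Functor.map_zero, comp_zero]

theorem comp_of_square {A : Type*} [Category A] {A' A₀ Q' Q N : A} {π' : A' ⟶ Q'} {t : A' ⟶ A₀} {π : A₀ ⟶ Q}
    {q : Q' ⟶ Q} {s : Q ⟶ N} {a : A₀ ⟶ N} (hn : t ≫ π = π' ≫ q) (hs : π ≫ s = a) : π' ≫ q ≫ s = t ≫ a := by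
  rw [← Category.assoc, ← hn, Category.assoc, hs]

/-- Precomposition with an isomorphism. -/
def precompIso {A : Type*} [Category A] [Preadditive A] {X Y : A} (e : X ≅ Y) (N : A) : (X ⟶ N) ≃+ (Y ⟶ N) where
  toFun w := e.inv ≫ w
  invFun w := e.hom ≫ w
  left_inv w := by simp
  right_inv w := by simp
  map_add' a b := Preadditive.comp_add _ _ _ _ a b

section Sect

set_option maxHeartbeats 1000000

variable [ModSite.HasPushOver O U]

theorem restr_map_comp_ι {G H : ModSite.Mod O} (ψ : G ⟶ (ModSite.sectOn O U).obj H) :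
    (ModSite.restr O U).map (ψ ≫ (ModSite.sectOnι O U).app H) = 0 :=
  (unit_comp_eq_zero_iff U _).1
    ((Category.assoc _ _ _).trans ((congrArg (ψ ≫ ·) (kernel.condition _)).trans comp_zero))

theorem restr_π_comp {G H : ModSite.Mod O} (χ : (ModSite.quotOn O U).obj G ⟶ H) :
    (ModSite.restr O U).map ((ModSite.quotOnπ O U).app G ≫ χ) = 0 :=
  (counit_comp_eq_zero_iff U _).1
    ((Category.assoc _ _ _).symm.trans ((congrArg (· ≫ χ) (cokernel.condition _)).trans zero_comp))

/-- Maps into `Γ_Z Hom(M, N)` are maps out of `(G ⊗ M)/(G ⊗ M)_U`. -/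
noncomputable def sectHomEquiv (G N : ModSite.Mod O) :
    (G ⟶ (ModSite.sectOn O U).obj ((ModSite.sheafHom M).obj N)) ≃+
      ((ModSite.quotOn O U).obj (((ModSite.tensorBi O).flip.obj M).obj G) ⟶ N) where
  toFun ψ := cokernel.desc _ (((ModSite.sheafHomAdj M).homAddEquiv G N).symm (ψ ≫ (ModSite.sectOnι O U).app _))
    ((counit_comp_eq_zero_iff U _).2 ((restr_adjunct_eq_zero_iff U M _).1 (restr_map_comp_ι U ψ)))
  invFun χ := kernel.lift _ ((ModSite.sheafHomAdj M).homAddEquiv G N ((ModSite.quotOnπ O U).app _ ≫ χ))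
    ((unit_comp_eq_zero_iff U _).2 ((restr_adjunct_eq_zero_iff U M _).2
      ((congrArg (ModSite.restr O U).map (((ModSite.sheafHomAdj M).homEquiv G N).symm_apply_apply _)).trans
        (restr_π_comp U χ))))
  left_inv ψ := by
    apply (cancel_mono ((ModSite.sectOnι O U).app _)).1
    refine (kernel.lift_ι _ _ _).trans ?_
    refine (congrArg ((ModSite.sheafHomAdj M).homAddEquiv G N) (cokernel.π_desc _ _ _)).trans ?_
    exact AddEquiv.apply_symm_apply _ _
  right_inv χ := by
    apply (cancel_epi ((ModSite.quotOnπ O U).app _)).1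
    refine (cokernel.π_desc _ _ _).trans ?_
    refine (congrArg ((ModSite.sheafHomAdj M).homAddEquiv G N).symm (kernel.lift_ι _ _ _)).trans ?_
    exact AddEquiv.symm_apply_apply _ _
  map_add' ψ ψ' := by
    apply (cancel_epi ((ModSite.quotOnπ O U).app _)).1
    refine (cokernel.π_desc _ _ _).trans ?_
    rw [Preadditive.add_comp, map_add]
    exact ((Preadditive.comp_add _ _ _ _ _ _).trans
      (congrArg₂ (· + ·) (cokernel.π_desc _ _ _) (cokernel.π_desc _ _ _))).symm

theorem sectHomEquiv_π {G N : ModSite.Mod O} (ψ : G ⟶ (ModSite.sectOn O U).obj ((ModSite.sheafHom M).obj N)) :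
    (ModSite.quotOnπ O U).app _ ≫ sectHomEquiv U M G N ψ =
      ((ModSite.sheafHomAdj M).homEquiv G N).symm (ψ ≫ (ModSite.sectOnι O U).app _) :=
  cokernel.π_desc _ _ _

theorem sectHomEquiv_natural_left {G' G N : ModSite.Mod O} (f : G' ⟶ G)
    (ψ : G ⟶ (ModSite.sectOn O U).obj ((ModSite.sheafHom M).obj N)) :
    sectHomEquiv U M G' N (f ≫ ψ) =
      (ModSite.quotOn O U).map (((ModSite.tensorBi O).flip.obj M).map f) ≫ sectHomEquiv U M G N ψ := by
  apply (cancel_epi ((ModSite.quotOnπ O U).app (((ModSite.tensorBi O).flip.obj M).obj G'))).1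
  refine (sectHomEquiv_π U M _).trans ?_
  rw [Category.assoc, (ModSite.sheafHomAdj M).homEquiv_naturality_left_symm]
  have hn : ((ModSite.tensorBi O).flip.obj M).map f ≫ (ModSite.quotOnπ O U).app _ =
      (ModSite.quotOnπ O U).app _ ≫ (ModSite.quotOn O U).map (((ModSite.tensorBi O).flip.obj M).map f) :=
    (ModSite.quotOnπ O U).naturality (((ModSite.tensorBi O).flip.obj M).map f)
  exact (comp_of_square hn (sectHomEquiv_π U M ψ)).symm

theorem sectHomEquiv_natural_right {G N N' : ModSite.Mod O} (g : N ⟶ N')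
    (ψ : G ⟶ (ModSite.sectOn O U).obj ((ModSite.sheafHom M).obj N)) :
    sectHomEquiv U M G N' (ψ ≫ (ModSite.sectOn O U).map ((ModSite.sheafHom M).map g)) =
      sectHomEquiv U M G N ψ ≫ g := by
  apply (cancel_epi ((ModSite.quotOnπ O U).app (((ModSite.tensorBi O).flip.obj M).obj G))).1
  refine (sectHomEquiv_π U M _).trans ?_
  have hn : (ModSite.sectOn O U).map ((ModSite.sheafHom M).map g) ≫ (ModSite.sectOnι O U).app _ =
      (ModSite.sectOnι O U).app _ ≫ (ModSite.sheafHom M).map g := (ModSite.sectOnι O U).naturality _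
  rw [Category.assoc, hn, ← Category.assoc, (ModSite.sheafHomAdj M).homEquiv_naturality_right_symm]
  rw [← sectHomEquiv_π U M ψ, Category.assoc]

/-- Maps from a free abelian sheaf into `Γ_Z Hom(M, N)`. -/
noncomputable def homEquivΦZ (N : ModSite.Mod O) (X : Sheaf J (Type u)) :
    ((fr J).obj X ⟶ ModSite.toAb ((ModSite.sectOn O U).obj ((ModSite.sheafHom M).obj N))) ≃+
      ((ModSite.quotOn O U).obj ((HomAcyclic.Φ O M).obj X) ⟶ N) :=
  ((HomAcyclic.freeEquiv O _ X).trans ((HomAcyclic.shfEquiv O _ _).trans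
      (sectHomEquiv U M ((shf O).obj ((HomAcyclic.freeMod O).obj X)) N))).trans
    (precompIso (X := (ModSite.quotOn O U).obj (((ModSite.tensorBi O).flip.obj M).obj ((shf O).obj ((HomAcyclic.freeMod O).obj X))))
      (Y := (ModSite.quotOn O U).obj ((HomAcyclic.Φ O M).obj X))
      ((ModSite.quotOn O U).mapIso ((shfCompIso M).app ((HomAcyclic.freeMod O).obj X))) N)

theorem homEquivΦZ_apply {N : ModSite.Mod O} (X : Sheaf J (Type u))
    (z : (fr J).obj X ⟶ ModSite.toAb ((ModSite.sectOn O U).obj ((ModSite.sheafHom M).obj N))) :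
    homEquivΦZ U M N X z = (ModSite.quotOn O U).map ((shfCompIso M).inv.app _) ≫
      sectHomEquiv U M _ N (HomAcyclic.shfEquiv O _ _ (HomAcyclic.freeFun O z)) := rfl

theorem homEquivΦZ_natural {N : ModSite.Mod O} {X Y : Sheaf J (Type u)} (f : X ⟶ Y)
    (z : (fr J).obj Y ⟶ ModSite.toAb ((ModSite.sectOn O U).obj ((ModSite.sheafHom M).obj N))) :
    homEquivΦZ U M N X ((fr J).map f ≫ z) =
      (ModSite.quotOn O U).map ((HomAcyclic.Φ O M).map f) ≫ homEquivΦZ U M N Y z := by
  rw [homEquivΦZ_apply, homEquivΦZ_apply, HomAcyclic.freeFun_comp, HomAcyclic.shfEquiv_natural,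
    sectHomEquiv_natural_left]
  exact ((Functor.map_comp_assoc _ _ _ _).symm.trans
    ((congrArg (fun k => (ModSite.quotOn O U).map k ≫ _)
      ((shfCompIso M).inv.naturality ((HomAcyclic.freeMod O).map f)).symm).trans (Functor.map_comp_assoc _ _ _ _)))

theorem homEquivΦZ_natural_right {N N' : ModSite.Mod O} (g : N ⟶ N') (X : Sheaf J (Type u))
    (z : (fr J).obj X ⟶ ModSite.toAb ((ModSite.sectOn O U).obj ((ModSite.sheafHom M).obj N))) :
    homEquivΦZ U M N' X (z ≫ (SheafOfModules.toSheaf _).map
      ((ModSite.sectOn O U).map ((ModSite.sheafHom M).map g))) = homEquivΦZ U M N X z ≫ g := by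
  rw [homEquivΦZ_apply, homEquivΦZ_apply, freeFun_comp_right]
  have h2 : HomAcyclic.shfEquiv O _ _ (HomAcyclic.freeFun O z ≫ (preF O).map
      ((ModSite.sectOn O U).map ((ModSite.sheafHom M).map g))) =
      HomAcyclic.shfEquiv O _ _ (HomAcyclic.freeFun O z) ≫ (ModSite.sectOn O U).map ((ModSite.sheafHom M).map g) :=
    (shfAdj O).homEquiv_naturality_right_symm _ _
  rw [h2, sectHomEquiv_natural_right]
  exact (Category.assoc _ _ _).symm

end Sect

end Groth.L15.ExtSupp
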