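import Groth.Agent.L15.ExtSupp.Quot
import Groth.Agent.L17.GrothSS
import Groth.Agent.L17.HomDerived

/-! `Ext^p(M, ℋ^q_Z N) ⇒ Ext^n_Z(M, N)`. -/

set_option autoImplicit false

namespace Groth.L15.ExtSupp

open CategoryTheory CategoryTheory.Limits Groth.L17

universe u

theorem enoughInjectives {A : Type*} [Category A] [Abelian A] [HasInjectiveResolutions A] : EnoughInjectives A :=
  ⟨fun X =>
    let I := injectiveResolution X
    ⟨{ J := I.cocomplex.X 0, injective := I.injective 0, f := I.ι.f 0,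
       mono := mono_of_isLimit_fork I.isLimitKernelFork }⟩⟩

variable {C : Type u} [SmallCategory C] {J : GrothendieckTopology C} {O : Sheaf J CommRingCat.{u}}
  [HasExt.{u} (ModSite.Mod O)] (U : C) [ModSite.HasPushOver O U]

/-- `Hom(M, Γ_Z -) = Hom(M/M_U, -)`. -/
noncomputable def homSectIso (M : ModSite.Mod O) :
    ModSite.sectOn O U ⋙ GrothSS.homFun M ≅ GrothSS.homFun ((ModSite.quotOn O U).obj M) :=
  haveI := (quotSectAdj (O := O) U).left_adjoint_additive
  NatIso.ofComponents (fun N => AddEquiv.toAddCommGrpIso ((quotSectAdj U).homAddEquiv M N).symm)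
    fun {N N'} g => by
      ext φ
      exact (quotSectAdj U).homEquiv_naturality_right_symm φ g

/-- Isomorphic functors have isomorphic derived functors. -/
noncomputable def rightDerivedIso {A B : Type*} [Category A] [Abelian A] [HasInjectiveResolutions A] [Category B] [Abelian B]
    {F G : A ⥤ B} [F.Additive] [G.Additive] (e : F ≅ G) (n : ℕ) : F.rightDerived n ≅ G.rightDerived n where
  hom := NatTrans.rightDerived e.hom n
  inv := NatTrans.rightDerived e.inv n
  hom_inv_id := by rw [← NatTrans.rightDerived_comp, e.hom_inv_id, NatTrans.rightDerived_id]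
  inv_hom_id := by rw [← NatTrans.rightDerived_comp, e.inv_hom_id, NatTrans.rightDerived_id]

theorem exists_spectralSequence (M N : ModSite.Mod O) [HasInjectiveResolutions (ModSite.Mod O)] :
    ∃ (E : E₂CohomologicalSpectralSequence AddCommGrpCat.{u})
      (a : SpSeq.Abutment E (fun n : ℤ =>
        if 0 ≤ n then AddCommGrpCat.of (_root_.ExtSupp.ExtZ U M N n.toNat) else AddCommGrpCat.of PUnit.{u + 1})),
      (∀ n, a.IsFinite n) ∧ SpSeq.IsBounded E ∧
      ∀ p q : ℤ, Nonempty ((E.page 2 le_rfl).X (p, q) ≅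
        (if 0 ≤ p ∧ 0 ≤ q then AddCommGrpCat.of (Abelian.Ext.{u} M ((ModSite.HZsh O U q.toNat).obj N) p.toNat)
         else AddCommGrpCat.of PUnit.{u + 1})) := by
  haveI := enoughInjectives (A := ModSite.Mod O)
  letI := HasDerivedCategory.standard (ModSite.Mod O)
  have hzero : IsZero (AddCommGrpCat.of PUnit.{u + 1}) := AddCommGrpCat.isZero_of_subsingleton _
  refine GrothSS.exists_spectralSequence_of_iso (ModSite.sectOn O U) (GrothSS.homFun M) ?_ N _
    (fun p q => if 0 ≤ p ∧ 0 ≤ q then AddCommGrpCat.of (Abelian.Ext.{u} M ((ModSite.HZsh O U q.toNat).obj N) p.toNat)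
      else AddCommGrpCat.of PUnit.{u + 1}) ?_ ?_ ?_ ?_
  · intro Q hQ q hq
    obtain ⟨j, rfl⟩ : ∃ j, q = j + 1 := ⟨q - 1, by omega⟩
    haveI := injective_sectOn U Q
    exact (GrothSS.homFun M).isZero_rightDerived_obj_injective_succ j _
  · intro n
    obtain ⟨e⟩ := GrothSS.nonempty_rightDerived_homFun ((ModSite.quotOn O U).obj M) N n
    exact ⟨eqToIso (by simp) ≪≫ e.symm ≪≫ ((rightDerivedIso (homSectIso U M) n).app N).symm⟩
  · intro n hn
    rw [if_neg (by omega)]
    exact hzero
  · intro p q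
    obtain ⟨e⟩ := GrothSS.nonempty_rightDerived_homFun M ((ModSite.HZsh O U q).obj N) p
    exact ⟨e ≪≫ eqToIso (by simp)⟩
  · intro p q h
    rw [if_neg h]
    exact hzero

end Groth.L15.ExtSupp
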