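import Groth.Agent.L15.ExtSupp.Acyclic
import Groth.Agent.L15.ExtSupp.Quot
import Groth.Agent.L15.ExtSupp.HomZ
import Groth.Agent.L15.ExtSupp.ExtHZ
import Groth.Agent.L10.RDerComplex
import Groth.Agent.L10.ModAcyc
import Groth.Agent.L10.PushAcyclic
import Groth.Agent.L15.FPFree.Basic
import Groth.Prelude.Def_ModSite2

/-! Totally acyclic modules are acyclic for sections with supports. -/

set_option autoImplicit false
set_option backward.defeqAttrib.useBackward true
set_option backward.isDefEq.respectTransparency false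

universe u

open CategoryTheory CategoryTheory.Limits CategoryTheory.Abelian Opposite

noncomputable section

namespace Groth.L15.SectAcyclic

open Groth.L10 Groth.L10.SiteFr Groth.L00.ModSiteTensor
open Groth.L15.FlatCrit (rs)
open Groth.L15.LocPres (ap rs_ap exists_kernel_sect)

variable {C : Type u} [SmallCategory C] {J : GrothendieckTopology C} {O : Sheaf J CommRingCat.{u}}

theorem exists_pair {K L : Sheaf J (Type u)} {V : C} (a : K.obj.obj (op V)) (b : L.obj.obj (op V)) :
    ∃ x : (K ⨯ L).obj.obj (op V), (prod.fst : K ⨯ L ⟶ K).hom.app (op V) x = a ∧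
      (prod.snd : K ⨯ L ⟶ L).hom.app (op V) x = b := by
  refine ⟨repEquiv V (K ⨯ L) (prod.lift ((repEquiv V K).symm a) ((repEquiv V L).symm b)), ?_, ?_⟩
  · rw [← repEquiv_comp, prod.lift_fst, Equiv.apply_symm_apply]
  · rw [← repEquiv_comp, prod.lift_snd, Equiv.apply_symm_apply]

theorem homEquiv_zero_app {X : Sheaf J (Type u)} {F : Sheaf J AddCommGrpCat.{u}} (W : Cᵒᵖ) (x : X.obj.obj W) :
    val ((adj J).homEquiv X F 0) W x = 0 := by
  have h := congrArg (fun m => val m W x) (adj_homEquiv_add (J := J) (0 : (fr J).obj X ⟶ F) 0)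
  rw [add_zero] at h
  exact left_eq_add.1 h

variable (U V : C)

/-- The part of `V` over the open generated by `U`. -/
abbrev tV : rep J V ⨯ rep J U ⟶ rep J V := prod.fst

/-- The map out of the free abelian sheaf given by a section. -/
def ofSect (M : ModSite.Mod O) (a : ModSite.sect M V) : (fr J).obj (rep J V) ⟶ ModSite.toAb M :=
  ((adj J).homEquiv (rep J V) (ModSite.toAb M)).symm ((repEquiv V ((SiteFr.U J).obj (ModSite.toAb M))).symm a)

variable {U V}

theorem fr_comp_ofSect_eq_zero_iff (M : ModSite.Mod O) (a : ModSite.sect M V) :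
    (fr J).map (tV U V) ≫ ofSect V M a = 0 ↔ ∀ ⦃W : C⦄ (h : W ⟶ V) (_ : W ⟶ U), rs M h a = 0 := by
  let η : ∀ X : C, yoneda.obj X ⟶ (rep J X).obj := fun X => CategoryTheory.toSheafify J (yoneda.obj X)
  let a₀ := (repEquiv V ((SiteFr.U J).obj (ModSite.toAb M))).symm a
  have hval : ∀ (W : C) (h : W ⟶ V), a₀.hom.app (op W) ((η V).app (op W) h) = rs M h a := fun W h =>
    Groth.L15.LocPres.repEquiv_symm_unit ((SiteFr.U J).obj (ModSite.toAb M)) a h
  have hz : (adj J).homEquiv (rep J V ⨯ rep J U) (ModSite.toAb M) ((fr J).map (tV U V) ≫ ofSect V M a) =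
      tV U V ≫ a₀ := by
    rw [ofSect, Adjunction.homEquiv_naturality_left, Equiv.apply_symm_apply]
  constructor
  · intro h0 W h k
    obtain ⟨x, hx, -⟩ := exists_pair (J := J) ((η V).app (op W) h) ((η U).app (op W) k)
    rw [← hval, ← hx]
    have h1 := congrArg (fun z : (fr J).obj (rep J V ⨯ rep J U) ⟶ ModSite.toAb M =>
      ((adj J).homEquiv _ _ z).hom.app (op W) x) h0
    simp only [hz] at h1
    exact h1.trans (homEquiv_zero_app (J := J) (op W) x)
  · intro h
    refine ((adj J).homEquiv _ _).injective ?_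
    rw [hz]
    refine hom_ext' fun W x => ?_
    let y := (tV U V).hom.app W x
    obtain ⟨W⟩ := W
    refine Groth.L15.ExtSupp.sect_ext M
      (Presheaf.imageSieve (η V) y ⊓ Presheaf.imageSieve (η U) ((prod.snd : rep J V ⨯ rep J U ⟶ rep J U).hom.app (op W) x))
      (J.intersection_covering (Presheaf.imageSieve_mem J _ _) (Presheaf.imageSieve_mem J _ _)) _ _ fun W' g hg => ?_
    obtain ⟨⟨h', hh'⟩, ⟨k, -⟩⟩ := hg
    have e1 : rs M g (a₀.hom.app (op W) y) = 0 := by
      refine ((NatTrans.naturality_apply a₀.hom g.op y).symm.trans ?_)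
      rw [← hh', hval]
      exact h h' k
    refine e1.trans ((map_zero (rs M g)).symm.trans (congrArg (rs M g) ?_))
    exact (homEquiv_zero_app (J := J) (F := ModSite.toAb M) (op W) x).symm

theorem ofSect_comp {M N : ModSite.Mod O} (f : M ⟶ N) (a : ModSite.sect M V) :
    ofSect V M a ≫ (SheafOfModules.toSheaf.{u} (ModSite.ringSh O)).map f = ofSect V N (ap f a) := by
  rw [ofSect, ← Adjunction.homEquiv_naturality_right_symm]
  refine congrArg ((adj J).homEquiv (rep J V) (ModSite.toAb N)).symm ?_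
  apply (repEquiv V ((SiteFr.U J).obj (ModSite.toAb N))).injective
  rw [repEquiv_comp, Equiv.apply_symm_apply, Equiv.apply_symm_apply]
  rfl

theorem exists_ofSect (M : ModSite.Mod O) (z : (fr J).obj (rep J V) ⟶ ModSite.toAb M) :
    ∃ a : ModSite.sect M V, ofSect V M a = z :=
  ⟨repEquiv V ((SiteFr.U J).obj (ModSite.toAb M)) ((adj J).homEquiv _ _ z), by simp [ofSect]⟩

variable [ModSite.HasPushOver O U]

theorem unit_app_eq_zero (F : ModSite.Mod O) {V : C} (x : F.val.obj (op V))
    (hx : ∀ ⦃W : C⦄ (f : W ⟶ V) (_ : W ⟶ U), F.val.map f.op x = 0) :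
    ((ModSite.restrPushOverAdj O U).unit.app F).val.app (op V) x = 0 := by
  let S : PresheafOfModules.Submodule F.val :=
    { obj := fun Y =>
        { carrier := {y | ∀ ⦃W : C⦄ (f : W ⟶ Y.unop) (_ : W ⟶ U), F.val.map f.op y = 0}
          add_mem' := fun {a b} ha hb W f g => by
            show (F.val.map f.op).hom (a + b) = 0
            erw [map_add, ha f g, hb f g]
            exact add_zero _
          zero_mem' := fun W f g => map_zero (F.val.map f.op).hom
          smul_mem' := fun r a ha W f g => by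
            show F.val.map f.op (r • a) = 0
            rw [PresheafOfModules.map_smul, ha f g, smul_zero] }
      map := fun {Y Z} k y hy W f g => by
        refine Eq.trans ?_ (hy (f ≫ k.unop) g)
        show F.val.map f.op (F.val.map k y) = _
        rw [← PresheafOfModules.map_comp_apply]
        rfl }
  let P : PMo O := S.toPresheafOfModules
  let t : (shf O).obj P ⟶ F := ((shfAdj O).homEquiv P F).symm S.ι
  have ht : Groth.L00.ModSiteTensor.unit P ≫ (preF O).map t = S.ι :=
    ((shfAdj O).homEquiv_unit P F t).symm.trans (Equiv.apply_symm_apply _ _)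
  have ht' : ∀ (W : C) (y : P.obj (op W)),
      t.val.app (op W) ((Groth.L00.ModSiteTensor.unit P).app (op W) y) = (y : S.obj (op W)).val :=
    fun W y => congr(($ht).app (op W) y)
  have h0 : (ModSite.restr O U).map t = 0 :=
    Groth.L15.ExtSupp.restr_eq_zero_of_shf U t fun W g y => by
      refine (ht' W y).trans ?_
      refine Eq.trans ?_ ((y : S.obj (op W)).2 (𝟙 W) g)
      rw [op_id]
      exact ((congr($(F.val.presheaf.map_id (op W)) (y : S.obj (op W)).val))).symm
  have h1 := (Groth.L15.ExtSupp.unit_comp_eq_zero_iff U t).2 h0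
  let y : P.obj (op V) := (⟨x, hx⟩ : S.obj (op V))
  have h2 := congr(($h1).val.app (op V) ((Groth.L00.ModSiteTensor.unit P).app (op V) $(rfl (a := y))))
  exact (congrArg (((ModSite.restrPushOverAdj O U).unit.app F).val.app (op V)) (ht' V y)).symm.trans h2

variable (U) in
/-- Sections with supports are right exact at short exact sequences with totally acyclic kernel. -/
theorem epi_sectOn_map {T : ShortComplex (ModSite.Mod O)} (hT : T.ShortExact)
    (hM : CohCx.IsTotallyAcyclic (ModSite.toAb T.X₁)) : Epi ((ModSite.sectOn O U).map T.g) := by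
  let Φ := SheafOfModules.toSheaf.{u} (ModSite.ringSh O)
  have hab := ModAcyc.shortExact_toSheaf O hT
  haveI : Mono (T.map Φ).f := hab.mono_f
  refine Φ.epi_of_epi_map ((Sheaf.isLocallySurjective_iff_epi' _ _).1 ⟨fun {V} s₀ => ?_⟩)
  refine J.superset_covering (fun W g _ => ?_) (J.top_mem V)
  let ι := fun M => (ModSite.sectOnι O U).app M
  let sW : ModSite.sect ((ModSite.sectOn O U).obj T.X₃) W := rs _ g s₀
  let s : ModSite.sect T.X₃ W := ap (ι T.X₃) sW
  have hs : ∀ ⦃W' : C⦄ (h : W' ⟶ W) (_ : W' ⟶ U), rs T.X₃ h s = 0 := fun W' h k =>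
    (rs_ap (ι T.X₃) h sW).trans (Groth.L15.ExtSupp.val_app_eq_zero_of_restr U (ι T.X₃)
      ((Groth.L15.ExtSupp.unit_comp_eq_zero_iff U _).1 (kernel.condition _)) k _)
  obtain ⟨a₀, ha₀⟩ := exists_lift_of_totallyAcyclic hab hM (rep J W)
    ((repEquiv W ((SiteFr.U J).obj (T.map Φ).X₃)).symm s)
  let a : ModSite.sect T.X₂ W := repEquiv W ((SiteFr.U J).obj (T.map Φ).X₂) a₀
  have ha : ap T.g a = s := by
    refine (repEquiv_comp a₀ ((SiteFr.U J).map (T.map Φ).g)).symm.trans ?_
    rw [ha₀, Equiv.apply_symm_apply]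
  let j := (fr J).map (Sheaf.imageι (tV (J := J) U W))
  let π := (fr J).map (Sheaf.toImage (tV (J := J) U W))
  haveI : (fr J).IsLeftAdjoint := (SiteFr.adj J).isLeftAdjoint
  haveI : Epi π := inferInstanceAs (Epi ((fr J).map (Sheaf.toImage _)))
  have hfac : π ≫ j = (fr J).map (tV (J := J) U W) := by
    show (fr J).map _ ≫ (fr J).map _ = _
    rw [← Functor.map_comp, Sheaf.toImage_ι]
  have hja : (j ≫ ofSect W T.X₂ a) ≫ (T.map Φ).g = 0 := by
    rw [← cancel_epi π, comp_zero]
    simp only [← Category.assoc]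
    rw [hfac, Category.assoc]
    show (fr J).map _ ≫ ofSect W T.X₂ a ≫ Φ.map T.g = 0
    rw [ofSect_comp, ha]
    exact (fr_comp_ofSect_eq_zero_iff T.X₃ s).2 hs
  let c := hab.exact.lift (j ≫ ofSect W T.X₂ a) hja
  obtain ⟨b, hb⟩ := Nerve.surjective_restrict hM (Sheaf.imageι (tV (J := J) U W)) c
  obtain ⟨m, rfl⟩ := exists_ofSect T.X₁ b
  let a' : ModSite.sect T.X₂ W := a - ap T.f m
  have ha' : ∀ ⦃W' : C⦄ (h : W' ⟶ W) (_ : W' ⟶ U), rs T.X₂ h a' = 0 := by
    intro W' h k
    rw [map_sub, sub_eq_zero]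
    have h1 : (fr J).map (tV (J := J) U W) ≫ ofSect W T.X₂ (a - ap T.f m) = 0 := by
      have hsub : ofSect W T.X₂ (a - ap T.f m) = ofSect W T.X₂ a - ofSect W T.X₁ m ≫ Φ.map T.f := by
        rw [ofSect_comp, eq_sub_iff_add_eq]
        apply ((adj J).homEquiv _ _).injective
        refine (adj_homEquiv_add _ _).trans ?_
        simp only [ofSect, Equiv.apply_symm_apply]
        apply (repEquiv W ((SiteFr.U J).obj (ModSite.toAb T.X₂))).injective
        refine (secRep_addHom _ _).trans ?_
        simp only [secRep, Equiv.apply_symm_apply]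
        exact sub_add_cancel a _
      rw [hsub, Preadditive.comp_sub, sub_eq_zero, ← hfac, Category.assoc, Category.assoc]
      refine congrArg (π ≫ ·) ?_
      refine ((hab.exact.lift_f (j ≫ ofSect W T.X₂ a) hja).symm.trans ?_)
      exact (congrArg (· ≫ (T.map Φ).f) hb.symm).trans (Category.assoc _ _ _)
    have := (fr_comp_ofSect_eq_zero_iff T.X₂ (a - ap T.f m)).1 h1 h k
    rwa [map_sub, sub_eq_zero] at this
  obtain ⟨y, hy⟩ := exists_kernel_sect _ a' (unit_app_eq_zero (U := U) T.X₂ a' ha')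
  refine ⟨y, ?_⟩
  apply Groth.L15.ExtSupp.val_app_injective (ι T.X₃) W
  have e1 : ap ((ModSite.sectOn O U).map T.g ≫ ι T.X₃) y = ap (ι T.X₂ ≫ T.g) y := by
    rw [(ModSite.sectOnι O U).naturality T.g]
    rfl
  show ap ((ModSite.sectOn O U).map T.g ≫ ι T.X₃) y = s
  rw [e1]
  show ap T.g (ap (kernel.ι _) y) = s
  refine (congrArg (ap T.g) hy).trans ?_
  rw [map_sub, ha, ← Groth.L15.LocPres.ap_comp, T.zero]
  exact sub_zero s

theorem isTotallyAcyclic_X₃ {T : ShortComplex (ModSite.Mod O)} (hT : T.ShortExact)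
    (h₁ : CohCx.IsTotallyAcyclic (ModSite.toAb T.X₁)) (h₂ : CohCx.IsTotallyAcyclic (ModSite.toAb T.X₂)) :
    CohCx.IsTotallyAcyclic (ModSite.toAb T.X₃) := fun K m => by
  have hab := ModAcyc.shortExact_toSheaf O hT
  refine subsingleton_of_forall_eq 0 fun z => ?_
  have : Subsingleton (Ext ((fr J).obj K) (T.map (SheafOfModules.toSheaf.{u} (ModSite.ringSh O))).X₁ (m + 1 + 1)) := h₁ K (m + 1)
  have : Subsingleton (Ext ((fr J).obj K) (T.map (SheafOfModules.toSheaf.{u} (ModSite.ringSh O))).X₂ (m + 1)) := h₂ K m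
  obtain ⟨z', rfl⟩ := Ext.covariant_sequence_exact₃ ((fr J).obj K) hab z (n₁ := m + 1 + 1) rfl (Subsingleton.elim _ _)
  rw [Subsingleton.elim z' 0, Ext.zero_comp]

variable (U) in
theorem isZero_HZsh [HasInjectiveResolutions (ModSite.Mod O)] (M : ModSite.Mod O)
    (hM : CohCx.IsTotallyAcyclic (ModSite.toAb M)) (q : ℕ) : IsZero ((ModSite.HZsh O U (q + 1)).obj M) := by
  haveI := Groth.L15.ExtSupp.enoughInjectives (A := ModSite.Mod O)
  let S := ModSite.sectOn O U
  haveI : PreservesFiniteLimits S := by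
    haveI := (Groth.L15.ExtSupp.quotSectAdj (O := O) U).rightAdjoint_preservesLimits
    infer_instance
  induction q generalizing M with
  | zero =>
    let T : ShortComplex (ModSite.Mod O) := ShortComplex.mk (Injective.ι M) (cokernel.π _) (cokernel.condition _)
    have hT : T.ShortExact := { exact := ShortComplex.exact_cokernel _ }
    obtain ⟨δ, w, w', -, h1⟩ := RDerComplex.exists_δ S hT 0
    haveI : Epi δ := h1.epi_f ((S.isZero_rightDerived_obj_injective_succ 0 T.X₂).eq_of_tgt _ _)
    haveI : Epi (S.map T.g) := epi_sectOn_map U hT hM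
    have hepi : Epi ((S.rightDerived 0).map T.g) :=
      ((MorphismProperty.epimorphisms _).arrow_mk_iso_iff
        (Arrow.isoMk (S.rightDerivedZeroIsoSelf.app T.X₂) (S.rightDerivedZeroIsoSelf.app T.X₃)
          (S.rightDerivedZeroIsoSelf.hom.naturality T.g).symm)).2 ‹_›
    exact IsZero.of_epi_eq_zero δ ((cancel_epi ((S.rightDerived 0).map T.g)).1 (w.trans comp_zero.symm))
  | succ q ih =>
    let T : ShortComplex (ModSite.Mod O) := ShortComplex.mk (Injective.ι M) (cokernel.π _) (cokernel.condition _)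
    have hT : T.ShortExact := { exact := ShortComplex.exact_cokernel _ }
    obtain ⟨δ, w, w', -, h1⟩ := RDerComplex.exists_δ S hT (q + 1)
    haveI : Epi δ := h1.epi_f ((S.isZero_rightDerived_obj_injective_succ (q + 1) T.X₂).eq_of_tgt _ _)
    haveI : Injective T.X₂ := inferInstanceAs (Injective (Injective.under M))
    exact IsZero.of_epi δ (ih T.X₃ (isTotallyAcyclic_X₃ hT hM (InjTA.isTotallyAcyclic O T.X₂)))

end Groth.L15.SectAcyclic
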