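import Groth.Agent.L15.ExtSupp.HomAb
import Groth.Agent.L15.ExtSupp.Acyclic
import Groth.Agent.L15.ExtSupp.ExtHZ
import Groth.Agent.L17.GrothSS

/-! `H^p_Z(ℰxt^q(M, N)) ⇒ Ext^n_Z(M, N)`. -/

set_option autoImplicit false

namespace Groth.L15.ExtSupp

open CategoryTheory CategoryTheory.Limits Groth.L17

universe u

variable {C : Type u} [SmallCategory C] {J : GrothendieckTopology C} {O : Sheaf J CommRingCat.{u}}
  [HasExt.{u} (ModSite.Mod O)] (U : C) (M : ModSite.Mod O) [ModSite.HasSheafHom M]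

/-- Sections with supports of `ℋom(M, -)` are maps out of `M/M_U`. -/
noncomputable def homZIso :
    (ModSite.sheafHom M ⋙ SheafOfModules.toSheaf _) ⋙ GrothSS.homFun (ToposFin.quotZ (ToposFin.eps J U)) ≅
      GrothSS.homFun ((ModSite.quotOn O U).obj M) :=
  NatIso.ofComponents (fun N => AddEquiv.toAddCommGrpIso (quotHomEquiv M U N).symm) fun {N N'} g => by
    ext ψ
    apply (quotHomEquiv M U N').injective
    refine ((quotHomEquiv M U N').apply_symm_apply _).trans ?_
    refine Eq.trans ?_ (quotHomEquiv_natural M U _ g).symm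
    exact (congrArg (· ≫ _) ((quotHomEquiv M U N).apply_symm_apply ψ)).symm

theorem exists_spectralSequence_extSh (N : ModSite.Mod O) [HasInjectiveResolutions (ModSite.Mod O)] :
    ∃ (E : E₂CohomologicalSpectralSequence AddCommGrpCat.{u})
      (a : SpSeq.Abutment E (fun n : ℤ =>
        if 0 ≤ n then AddCommGrpCat.of (_root_.ExtSupp.ExtZ U M N n.toNat) else AddCommGrpCat.of PUnit.{u + 1})),
      (∀ n, a.IsFinite n) ∧ SpSeq.IsBounded E ∧
      ∀ p q : ℤ, Nonempty ((E.page 2 le_rfl).X (p, q) ≅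
        (if 0 ≤ p ∧ 0 ≤ q then AddCommGrpCat.of (ModSite.HZ U ((ModSite.extSh M q.toNat).obj N) p.toNat)
         else AddCommGrpCat.of PUnit.{u + 1})) := by
  haveI := enoughInjectives (A := ModSite.Mod O)
  letI := HasDerivedCategory.standard (Sheaf J AddCommGrpCat.{u})
  have hzero : IsZero (AddCommGrpCat.of PUnit.{u + 1}) := AddCommGrpCat.isZero_of_subsingleton _
  refine GrothSS.exists_spectralSequence_of_iso (ModSite.sheafHom M ⋙ SheafOfModules.toSheaf _)
    (GrothSS.homFun (ToposFin.quotZ (ToposFin.eps J U))) ?_ N _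
    (fun p q => if 0 ≤ p ∧ 0 ≤ q then AddCommGrpCat.of (ModSite.HZ U ((ModSite.extSh M q.toNat).obj N) p.toNat)
      else AddCommGrpCat.of PUnit.{u + 1}) ?_ ?_ ?_ ?_
  · intro Q hQ q hq
    obtain ⟨j, rfl⟩ : ∃ j, q = j + 1 := ⟨q - 1, by omega⟩
    obtain ⟨e⟩ := GrothSS.nonempty_rightDerived_homFun (ToposFin.quotZ (ToposFin.eps J U))
      ((ModSite.sheafHom M ⋙ SheafOfModules.toSheaf _).obj Q) (j + 1)
    haveI := subsingleton_ext_quotZ (HomAcyclic.isTotallyAcyclic_sheafHom O M Q) (ToposFin.eps J U) j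
    exact (@AddCommGrpCat.isZero_of_subsingleton
      (AddCommGrpCat.of (Abelian.Ext (ToposFin.quotZ (ToposFin.eps J U))
        ((ModSite.sheafHom M ⋙ SheafOfModules.toSheaf _).obj Q) (j + 1))) this).of_iso e
  · intro n
    obtain ⟨e⟩ := GrothSS.nonempty_rightDerived_homFun ((ModSite.quotOn O U).obj M) N n
    exact ⟨eqToIso (by simp) ≪≫ e.symm ≪≫ ((rightDerivedIso (homZIso U M) n).app N).symm⟩
  · intro n hn
    rw [if_neg (by omega)]
    exact hzero
  · intro p q
    obtain ⟨e⟩ := GrothSS.nonempty_rightDerived_homFun (ToposFin.quotZ (ToposFin.eps J U))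
      (ModSite.toAb ((ModSite.extSh M q).obj N)) p
    exact ⟨((GrothSS.homFun (ToposFin.quotZ (ToposFin.eps J U))).rightDerived p).mapIso
      (rightDerivedCompExact (ModSite.sheafHom M) (SheafOfModules.toSheaf _) q N) ≪≫ e ≪≫ eqToIso (by simp <;> exact ⟨rfl, HEq.rfl⟩)⟩
  · intro p q h
    rw [if_neg h]
    exact hzero

end Groth.L15.ExtSupp
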