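import Groth.Agent.L15.ExtSupp.HomZ
import Groth.Agent.L15.ExtSupp.ExtSh
import Mathlib.GroupTheory.FreeAbelianGroup
import Mathlib.CategoryTheory.Sites.SheafCohomology.Basic

/-! `H^p(ℰxt^q_Z(M, N)) ⇒ Ext^n_Z(M, N)`. -/

set_option autoImplicit false

namespace Groth.L15.ExtSupp

open CategoryTheory CategoryTheory.Limits Opposite MonoidalCategory
open Groth.L10 Groth.L10.SiteFr Groth.L00.ModSiteTensor Groth.L17

universe u

variable {C : Type u} [SmallCategory C] {J : GrothendieckTopology C} {O : Sheaf J CommRingCat.{u}}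

section Acyc

variable (U : C) [ModSite.HasPushOver O U] (M : ModSite.Mod O) [ModSite.HasSheafHom M]

instance additive_quotOn : (ModSite.quotOn O U).Additive := (quotSectAdj (O := O) U).left_adjoint_additive

theorem preservesHomology_quotOn : (ModSite.quotOn O U).PreservesHomology := by
  haveI := (quotSectAdj (O := O) U).isLeftAdjoint
  exact Functor.preservesHomology_of_preservesMonos_and_cokernels _

set_option maxHeartbeats 1000000 in
/-- `Γ_Z ℋom(M, I)` is totally acyclic. -/
theorem isTotallyAcyclic_sectHom (G : ModSite.Mod O) [Injective G] :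
    CohCx.IsTotallyAcyclic (ModSite.toAb ((ModSite.sectOn O U).obj ((ModSite.sheafHom M).obj G))) := by
  haveI := preservesHomology_quotOn (O := O) U
  refine Nerve.CechAcyclic.isTotallyAcyclic fun K' K f _ n z hz => ?_
  have hd : ∀ (m : ℕ) (w : (fr J).obj (Nerve.N f m) ⟶
      ModSite.toAb ((ModSite.sectOn O U).obj ((ModSite.sheafHom M).obj G))),
      homEquivΦZ U M G _ (Nerve.d f m ≫ w) =
        (ModSite.quotOn O U).map (HomAcyclic.DΦ O M f m) ≫ homEquivΦZ U M G _ w := by
    intro m w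
    rw [HomAcyclic.DΦ_eq, Nerve.d, Preadditive.sum_comp, map_sum, Functor.map_sum, Preadditive.sum_comp]
    refine Finset.sum_congr rfl fun j _ => ?_
    rw [Preadditive.zsmul_comp, map_zsmul, Functor.map_zsmul, Preadditive.zsmul_comp, homEquivΦZ_natural]
  have hex := (HomAcyclic.exact_DΦ O M f n).map (ModSite.quotOn O U)
  have h0 : (ModSite.quotOn O U).map (HomAcyclic.DΦ O M f (n+1)) ≫ homEquivΦZ U M G _ z = 0 := by
    rw [← hd, hz, map_zero]
  refine ⟨(homEquivΦZ U M G _).symm (hex.descToInjective _ h0), ?_⟩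
  apply (homEquivΦZ U M G (Nerve.N f (n+1))).injective
  rw [hd]
  exact (congrArg ((ModSite.quotOn O U).map (HomAcyclic.DΦ O M f n) ≫ ·)
    ((homEquivΦZ U M G _).apply_symm_apply (hex.descToInjective _ h0))).trans (hex.comp_descToInjective _ h0)

end Acyc

section Const

/-- The free sheaf on a point is the constant sheaf. -/
noncomputable def frPtIso : (fr J).obj (ptSh (J := J)) ≅
    (constantSheaf J AddCommGrpCat.{u}).obj (AddCommGrpCat.of (ULift.{u} ℤ)) :=
  (presheafToSheaf J AddCommGrpCat.{u}).mapIso <|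
    NatIso.ofComponents
      (fun V =>
        letI := (unique_pt (J := J) V).some
        ((FreeAbelianGroup.uniqueEquiv ((ptSh (J := J)).obj.obj V)).trans AddEquiv.ulift.symm).toAddCommGrpIso)
      fun {V W} f => by
        apply AddCommGrpCat.hom_ext
        refine FreeAbelianGroup.lift_ext _ _ fun x => ?_
        show (ULift.up (FreeAbelianGroup.lift (fun _ => (1 : ℤ))
            (FreeAbelianGroup.map (fun y => (ptSh (J := J)).obj.map f y) (FreeAbelianGroup.of x))) : ULift.{u} ℤ) =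
          ULift.up (FreeAbelianGroup.lift (fun _ => (1 : ℤ)) (FreeAbelianGroup.of x))
        simp

variable (U : C) [ModSite.HasPushOver O U] (M : ModSite.Mod O) [ModSite.HasSheafHom M]

/-- `Φ(pt) ≅ M`. -/
noncomputable def ptΦIso : (HomAcyclic.Φ O M).obj (ptSh (J := J)) ≅ M :=
  (shf O).mapIso (ptTensIso M) ≪≫ (asIso (shfAdj O).counit).app M

set_option maxHeartbeats 1000000 in
/-- `Hom(ℤ, Γ_Z ℋom(M, N)) = Hom(M/M_U, N)`. -/
noncomputable def constEquiv (N : ModSite.Mod O) :
    ((constantSheaf J AddCommGrpCat.{u}).obj (AddCommGrpCat.of (ULift.{u} ℤ)) ⟶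
        ModSite.toAb ((ModSite.sectOn O U).obj ((ModSite.sheafHom M).obj N))) ≃+
      ((ModSite.quotOn O U).obj M ⟶ N) :=
  ((precompIso frPtIso.symm _).trans (homEquivΦZ U M N (ptSh (J := J)))).trans
    (precompIso ((ModSite.quotOn O U).mapIso (ptΦIso M)) N)

set_option maxHeartbeats 1000000 in
theorem constEquiv_natural {N N' : ModSite.Mod O} (g : N ⟶ N')
    (z : (constantSheaf J AddCommGrpCat.{u}).obj (AddCommGrpCat.of (ULift.{u} ℤ)) ⟶
      ModSite.toAb ((ModSite.sectOn O U).obj ((ModSite.sheafHom M).obj N))) :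
    constEquiv U M N' (z ≫ (SheafOfModules.toSheaf _).map ((ModSite.sectOn O U).map ((ModSite.sheafHom M).map g))) =
      constEquiv U M N z ≫ g := by
  show ((ModSite.quotOn O U).mapIso (ptΦIso M)).inv ≫ homEquivΦZ U M N' _ (frPtIso.hom ≫ z ≫ _) =
    (((ModSite.quotOn O U).mapIso (ptΦIso M)).inv ≫ homEquivΦZ U M N _ (frPtIso.hom ≫ z)) ≫ g
  rw [← Category.assoc frPtIso.hom, homEquivΦZ_natural_right, Category.assoc]

variable [HasExt.{u} (ModSite.Mod O)]

/-- As functors of `N`. -/
noncomputable def constIso :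
    ((ModSite.sheafHom M ⋙ ModSite.sectOn O U) ⋙ SheafOfModules.toSheaf _) ⋙
        GrothSS.homFun ((constantSheaf J AddCommGrpCat.{u}).obj (AddCommGrpCat.of (ULift.{u} ℤ))) ≅
      GrothSS.homFun ((ModSite.quotOn O U).obj M) :=
  NatIso.ofComponents (fun N => AddEquiv.toAddCommGrpIso (constEquiv U M N)) fun {N N'} g => by
    ext z
    exact constEquiv_natural U M g z

theorem exists_spectralSequence_extZSh (N : ModSite.Mod O) [HasInjectiveResolutions (ModSite.Mod O)] :
    ∃ (E : E₂CohomologicalSpectralSequence AddCommGrpCat.{u})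
      (a : SpSeq.Abutment E (fun n : ℤ =>
        if 0 ≤ n then AddCommGrpCat.of (_root_.ExtSupp.ExtZ U M N n.toNat) else AddCommGrpCat.of PUnit.{u + 1})),
      (∀ n, a.IsFinite n) ∧ SpSeq.IsBounded E ∧
      ∀ p q : ℤ, Nonempty ((E.page 2 le_rfl).X (p, q) ≅
        (if 0 ≤ p ∧ 0 ≤ q then AddCommGrpCat.of (ModSite.HC O ((ModSite.extZSh U M q.toNat).obj N) p.toNat)
         else AddCommGrpCat.of PUnit.{u + 1})) := by
  haveI := enoughInjectives (A := ModSite.Mod O)
  letI := HasDerivedCategory.standard (Sheaf J AddCommGrpCat.{u})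
  have hzero : IsZero (AddCommGrpCat.of PUnit.{u + 1}) := AddCommGrpCat.isZero_of_subsingleton _
  let Z : Sheaf J AddCommGrpCat.{u} := (constantSheaf J AddCommGrpCat.{u}).obj (AddCommGrpCat.of (ULift.{u} ℤ))
  refine GrothSS.exists_spectralSequence_of_iso
    ((ModSite.sheafHom M ⋙ ModSite.sectOn O U) ⋙ SheafOfModules.toSheaf _)
    (GrothSS.homFun Z) ?_ N _
    (fun p q => if 0 ≤ p ∧ 0 ≤ q then AddCommGrpCat.of (ModSite.HC O ((ModSite.extZSh U M q.toNat).obj N) p.toNat)
      else AddCommGrpCat.of PUnit.{u + 1}) ?_ ?_ ?_ ?_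
  · intro Q hQ q hq
    obtain ⟨j, rfl⟩ : ∃ j, q = j + 1 := ⟨q - 1, by omega⟩
    obtain ⟨e⟩ := GrothSS.nonempty_rightDerived_homFun Z
      (((ModSite.sheafHom M ⋙ ModSite.sectOn O U) ⋙ SheafOfModules.toSheaf _).obj Q) (j + 1)
    haveI : Subsingleton (Abelian.Ext ((fr J).obj (ptSh (J := J)))
        (ModSite.toAb ((ModSite.sectOn O U).obj ((ModSite.sheafHom M).obj Q))) (j + 1)) :=
      isTotallyAcyclic_sectHom U M Q _ j
    have h := subsingleton_ext_of_iso (F := ModSite.toAb ((ModSite.sectOn O U).obj ((ModSite.sheafHom M).obj Q)))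
      (n := j + 1) (frPtIso (J := J))
    exact (@AddCommGrpCat.isZero_of_subsingleton (AddCommGrpCat.of (Abelian.Ext Z
        (((ModSite.sheafHom M ⋙ ModSite.sectOn O U) ⋙ SheafOfModules.toSheaf _).obj Q) (j + 1))) h).of_iso e
  · intro n
    obtain ⟨e⟩ := GrothSS.nonempty_rightDerived_homFun ((ModSite.quotOn O U).obj M) N n
    exact ⟨eqToIso (by simp) ≪≫ e.symm ≪≫ ((rightDerivedIso (constIso U M) n).app N).symm⟩
  · intro n hn
    rw [if_neg (by omega)]
    exact hzero
  · intro p q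
    obtain ⟨e⟩ := GrothSS.nonempty_rightDerived_homFun Z (ModSite.toAb ((ModSite.extZSh U M q).obj N)) p
    exact ⟨((GrothSS.homFun Z).rightDerived p).mapIso
      (rightDerivedCompExact (ModSite.sheafHom M ⋙ ModSite.sectOn O U) (SheafOfModules.toSheaf _) q N) ≪≫ e ≪≫
      eqToIso (by simp <;> rfl)⟩
  · intro p q h
    rw [if_neg h]
    exact hzero

end Const

end Groth.L15.ExtSupp
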