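import Groth.Agent.L15.ExtSupp.Quot
import Groth.Agent.L17.HomAcyclic
import Groth.Agent.L17.HomDerived
import Groth.Prelude.Def_ToposFin2

/-! Maps into `Hom_O(M, N)` killed on the open are maps out of `M/M_U`. -/

set_option autoImplicit false

namespace Groth.L15.ExtSupp

open CategoryTheory CategoryTheory.Limits Opposite MonoidalCategory
open Groth.L10 Groth.L10.SiteFr Groth.L00.ModSiteTensor Groth.L17

universe u

variable {C : Type u} [SmallCategory C] {J : GrothendieckTopology C} {O : Sheaf J CommRingCat.{u}}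

local notation "R₀" => O.obj ⋙ forget₂ CommRingCat RingCat

section Natural

variable {F : ModSite.Mod O}

theorem freeFun_comp_right {H H' : ModSite.Mod O} {X : Sheaf J (Type u)} (z : (fr J).obj X ⟶ ModSite.toAb H)
    (h : H ⟶ H') :
    HomAcyclic.freeFun O (z ≫ (SheafOfModules.toSheaf _).map h) = HomAcyclic.freeFun O z ≫ (preF O).map h := by
  apply PresheafOfModules.freeHomEquiv.injective
  refine (PresheafOfModules.freeHomEquiv.apply_symm_apply _).trans ?_
  rw [(adj J).homEquiv_naturality_right]
  refine NatTrans.ext (funext fun V => ConcreteCategory.hom_ext _ _ fun x => ?_)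
  refine Eq.trans ?_ (congrArg (h.val.app V)
    congr(($(PresheafOfModules.freeHomEquiv.apply_symm_apply ((adj J).homEquiv X _ z).hom)).app V x)).symm
  rfl

variable [ModSite.HasSheafHom F]

theorem homEquivΦ_apply {G : ModSite.Mod O} (X : Sheaf J (Type u))
    (z : (fr J).obj X ⟶ ModSite.toAb ((ModSite.sheafHom F).obj G)) :
    HomAcyclic.homEquivΦ O F G X z =
      HomAcyclic.tensEquiv O F G _ (HomAcyclic.shfEquiv O _ _ (HomAcyclic.freeFun O z)) := rfl

theorem tensEquiv_natural_right {G G' : ModSite.Mod O} (g : G ⟶ G') (P : PMo O)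
    (w : (shf O).obj P ⟶ (ModSite.sheafHom F).obj G) :
    HomAcyclic.tensEquiv O F G' P (w ≫ (ModSite.sheafHom F).map g) = HomAcyclic.tensEquiv O F G P w ≫ g := by
  have h : ((ModSite.sheafHomAdj F).homEquiv ((shf O).obj P) G').symm (w ≫ (ModSite.sheafHom F).map g) =
      ((ModSite.sheafHomAdj F).homEquiv ((shf O).obj P) G).symm w ≫ g :=
    (ModSite.sheafHomAdj F).homEquiv_naturality_right_symm w g
  exact (congrArg (fun v => (shfCompIso F).inv.app P ≫ v) h).trans (Category.assoc _ _ _).symm

theorem homEquivΦ_natural_right {G G' : ModSite.Mod O} (g : G ⟶ G') (X : Sheaf J (Type u))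
    (z : (fr J).obj X ⟶ ModSite.toAb ((ModSite.sheafHom F).obj G)) :
    HomAcyclic.homEquivΦ O F G' X (z ≫ (SheafOfModules.toSheaf _).map ((ModSite.sheafHom F).map g)) =
      HomAcyclic.homEquivΦ O F G X z ≫ g := by
  rw [homEquivΦ_apply, homEquivΦ_apply]
  rw [freeFun_comp_right]
  have h2 : HomAcyclic.shfEquiv O _ _ (HomAcyclic.freeFun O z ≫ (preF O).map ((ModSite.sheafHom F).map g)) =
      HomAcyclic.shfEquiv O _ _ (HomAcyclic.freeFun O z) ≫ (ModSite.sheafHom F).map g :=
    (shfAdj O).homEquiv_naturality_right_symm (HomAcyclic.freeFun O z) ((ModSite.sheafHom F).map g)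
  rw [h2]
  exact tensEquiv_natural_right g _ _

end Natural

variable (M : ModSite.Mod O)

/-- The final sheaf of sets. -/
noncomputable abbrev ptSh : Sheaf J (Type u) := ⊤_ _

theorem unique_pt (V : Cᵒᵖ) : Nonempty (Unique ((ptSh (J := J)).obj.obj V)) := by
  have h := IsTerminal.isTerminalObj ((sheafToPresheaf J (Type u)) ⋙ (evaluation Cᵒᵖ (Type u)).obj V) _
    terminalIsTerminal
  exact ⟨(Types.isTerminalEquivUnique _) h⟩

/-- The free presheaf of modules on a point is the structure presheaf. -/
noncomputable def freePtIso : (HomAcyclic.freeMod O).obj (ptSh (J := J)) ≅ 𝟙_ (PMo O) :=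
  let w : (HomAcyclic.freeMod O).obj (ptSh (J := J)) ⟶ 𝟙_ (PMo O) :=
    (PresheafOfModules.freeHomEquiv (G := 𝟙_ (PMo O)) (F := (ptSh (J := J)).obj)).symm
      { app := fun V => ↾fun _ => (1 : O.obj.obj V)
        naturality := fun V W f => by ext x; exact (map_one (O.obj.map f).hom).symm }
  haveI : ∀ V, IsIso (w.app V) := fun V => by
    refine (ConcreteCategory.isIso_iff_bijective _).2 ?_
    let hu := (unique_pt (J := J) V).some
    let e : ((ptSh (J := J)).obj.obj V →₀ O.obj.obj V) ≃ₗ[O.obj.obj V] O.obj.obj V :=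
      Finsupp.LinearEquiv.finsuppUnique _ _ _
    have : ∀ z : (ptSh (J := J)).obj.obj V →₀ O.obj.obj V, (w.app V) z = e z := fun z => by
      induction z using Finsupp.induction_linear with
      | zero => exact (map_zero (w.app V).hom).trans (map_zero e).symm
      | add a b ha hb => exact (map_add (w.app V).hom a b).trans ((congrArg₂ (· + ·) ha hb).trans (map_add e a b).symm)
      | single x r =>
        have hx : x = default := Subsingleton.elim _ _
        subst hx
        show Finsupp.lift (O.obj.obj V) (O.obj.obj V) ((ptSh (J := J)).obj.obj V) (fun _ => (1 : O.obj.obj V))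
          (Finsupp.single default r) = e (Finsupp.single default r)
        rw [Finsupp.lift_apply]
        simp [e]
        exact (Finsupp.single_eq_same).symm
    exact (funext this : ⇑(w.app V) = ⇑e) ▸ e.bijective
  PresheafOfModules.isoMk (fun V => asIso (w.app V)) fun V W f => w.naturality f

/-- `free(pt) ⊗ M ≅ M` on presheaves. -/
noncomputable def ptTensIso : (HomAcyclic.PT O M).obj (ptSh (J := J)) ≅ (preF O).obj M :=
  MonoidalCategory.whiskerRightIso freePtIso ((preF O).obj M) ≪≫ λ_ _

variable [ModSite.HasSheafHom M]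

/-- `Hom(M, N) = H⁰(ℋom(M, N))`. -/
noncomputable def globEquiv (N : ModSite.Mod O) :
    (M ⟶ N) ≃+ ((fr J).obj (ptSh (J := J)) ⟶ ModSite.toAb ((ModSite.sheafHom M).obj N)) :=
  ({ toFun := fun a => HomAcyclic.shfEquiv O N _ ((ptTensIso M).hom ≫ (preF O).map a)
     invFun := fun z => (SheafOfModules.fullyFaithfulForget _).preimage
       ((ptTensIso M).inv ≫ (HomAcyclic.shfEquiv O N _).symm z)
     left_inv := fun a => by
       simp only [AddEquiv.symm_apply_apply]
       exact (congrArg (SheafOfModules.fullyFaithfulForget (ModSite.ringSh O)).preimage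
         (Iso.inv_hom_id_assoc (ptTensIso M) ((preF O).map a))).trans
         ((SheafOfModules.fullyFaithfulForget _).preimage_map a)
     right_inv := fun z => by
       have h : (preF O).map ((SheafOfModules.fullyFaithfulForget _).preimage
           ((ptTensIso M).inv ≫ (HomAcyclic.shfEquiv O N _).symm z)) = (ptTensIso M).inv ≫ (HomAcyclic.shfEquiv O N _).symm z :=
         (SheafOfModules.fullyFaithfulForget _).map_preimage _
       simp only [h, Iso.hom_inv_id_assoc, AddEquiv.apply_symm_apply]
     map_add' := fun a b => by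
       haveI : (preF O).Additive := inferInstanceAs (SheafOfModules.forget (ModSite.ringSh O)).Additive
       rw [← map_add, ← Preadditive.comp_add]
       exact congrArg (fun t => HomAcyclic.shfEquiv O N _ ((ptTensIso M).hom ≫ t)) (Functor.map_add (preF O)) } :
    (M ⟶ N) ≃+ ((HomAcyclic.Φ O M).obj (ptSh (J := J)) ⟶ N)).trans (HomAcyclic.homEquivΦ O M N _).symm

theorem globEquiv_natural {N N' : ModSite.Mod O} (a : M ⟶ N) (g : N ⟶ N') :
    globEquiv M N' (a ≫ g) = globEquiv M N a ≫ (SheafOfModules.toSheaf _).map ((ModSite.sheafHom M).map g) := by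
  apply (HomAcyclic.homEquivΦ O M N' (ptSh (J := J))).injective
  rw [homEquivΦ_natural_right]
  show HomAcyclic.homEquivΦ O M N' _ ((HomAcyclic.homEquivΦ O M N' _).symm
      (HomAcyclic.shfEquiv O N' _ ((ptTensIso M).hom ≫ (preF O).map (a ≫ g)))) =
    HomAcyclic.homEquivΦ O M N _ ((HomAcyclic.homEquivΦ O M N _).symm
      (HomAcyclic.shfEquiv O N _ ((ptTensIso M).hom ≫ (preF O).map a))) ≫ g
  rw [AddEquiv.apply_symm_apply, AddEquiv.apply_symm_apply, Functor.map_comp, ← Category.assoc]
  exact (shfAdj O).homEquiv_naturality_right_symm _ g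

/-- A global map dies on `X` exactly when it vanishes wherever `X` has a section. -/
theorem fr_map_globEquiv_eq_zero_iff {N : ModSite.Mod O} (X : Sheaf J (Type u)) (a : M ⟶ N) :
    (fr J).map (terminal.from X) ≫ globEquiv M N a = 0 ↔
      ∀ (V : Cᵒᵖ), Nonempty (X.obj.obj V) → (PresheafOfModules.evaluation R₀ V).map ((preF O).map a) = 0 := by
  let t := (HomAcyclic.PT O M).map (terminal.from X)
  let c := (ptTensIso M).hom
  have h1 : (fr J).map (terminal.from X) ≫ globEquiv M N a = 0 ↔ t ≫ c ≫ (preF O).map a = 0 := by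
    rw [← (HomAcyclic.homEquivΦ O M N X).map_eq_zero_iff, HomAcyclic.homEquivΦ_natural]
    show (shf O).map t ≫ HomAcyclic.homEquivΦ O M N _ ((HomAcyclic.homEquivΦ O M N _).symm
      (HomAcyclic.shfEquiv O N _ (c ≫ (preF O).map a))) = 0 ↔ _
    rw [AddEquiv.apply_symm_apply, ← HomAcyclic.shfEquiv_natural]
    exact AddEquiv.map_eq_zero_iff _
  rw [h1]
  have ht : ∀ V, t.app V = (HomAcyclic.TV O M V).map ((terminal.from X).hom.app V) :=
    fun V => HomAcyclic.PT_map_app O M _ V
  let E := PresheafOfModules.evaluation R₀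
  constructor
  · intro h V ⟨x⟩
    have h2 : (E V).map t ≫ (E V).map c ≫ (E V).map ((preF O).map a) = 0 := by
      rw [← Functor.map_comp, ← Functor.map_comp, h, Functor.map_zero]
    let sec : (ptSh (J := J)).obj.obj V ⟶ X.obj.obj V := ↾fun _ => x
    have hsec : sec ≫ (terminal.from X).hom.app V = 𝟙 _ := by
      haveI := (unique_pt (J := J) V).some
      ext y
      exact Subsingleton.elim _ _
    haveI : Epi ((E V).map t) :=
      (SplitEpi.mk (f := (E V).map t) ((HomAcyclic.TV O M V).map sec)
        ((congrArg (fun q => (HomAcyclic.TV O M V).map sec ≫ q) (ht V)).trans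
          ((Functor.map_comp _ _ _).symm.trans ((congrArg _ hsec).trans ((HomAcyclic.TV O M V).map_id _))))).epi
    haveI : IsIso ((E V).map c) := inferInstanceAs (IsIso ((E V).mapIso (ptTensIso M)).hom)
    exact (cancel_epi ((E V).map c)).1 (((cancel_epi ((E V).map t)).1 (h2.trans comp_zero.symm)).trans comp_zero.symm)
  · intro h
    refine PresheafOfModules.hom_ext fun V => ?_
    show (E V).map t ≫ (E V).map c ≫ (E V).map ((preF O).map a) = 0
    by_cases hX : Nonempty (X.obj.obj V)
    · rw [show (E V).map ((preF O).map a) = 0 from h V hX, comp_zero, comp_zero]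
    · refine IsZero.eq_of_src ?_ _ _
      haveI : IsEmpty (X.obj.obj V) := not_nonempty_iff.1 hX
      haveI : Subsingleton ((ModuleCat.free (O.obj.obj V)).obj (X.obj.obj V)) :=
        inferInstanceAs (Subsingleton (X.obj.obj V →₀ O.obj.obj V))
      exact Functor.map_isZero (MonoidalCategory.tensorRight (show ModuleCat.{u} (O.obj.obj V) from M.val.obj V))
        (ModuleCat.isZero_of_subsingleton ((ModuleCat.free (O.obj.obj V)).obj (X.obj.obj V)))

variable (U : C)

theorem fr_map_globEquiv_eps_iff {N : ModSite.Mod O} (a : M ⟶ N) :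
    (fr J).map (terminal.from (ToposFin.eps J U)) ≫ globEquiv M N a = 0 ↔
      (ModSite.extZeroAdj O U).counit.app M ≫ a = 0 := by
  rw [fr_map_globEquiv_eq_zero_iff, counit_comp_eq_zero_iff]
  constructor
  · intro h
    refine restr_map_eq_zero U a fun V g x => ?_
    exact congrArg (fun φ => ModuleCat.Hom.hom φ x) (h (op V) ⟨(CategoryTheory.toSheafify J (yoneda.obj U)).app (op V) g⟩)
  · rintro h ⟨V⟩ ⟨s⟩
    ext x
    refine sect_ext N _ (Presheaf.imageSieve_mem J (CategoryTheory.toSheafify J (yoneda.obj U)) (U := op V) s) _ _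
      fun W g ⟨gU, _⟩ => ?_
    let y : ModSite.sect M V := x
    refine (res_natural a g y).trans ?_
    show a.val.app (op W) (res M g y) = res N g 0
    have hz : (a.val.app (op W)) (res M g y) = 0 :=
      congrArg (fun ψ : (ModSite.restr O U).obj M ⟶ (ModSite.restr O U).obj N =>
        (ψ.val.app (op (Over.mk gU))).hom (res M g y)) h
    rw [hz]
    exact (map_zero _).symm

/-- `Hom(M/M_U, N) = H⁰_Z(ℋom(M, N))`. -/
noncomputable def quotHomEquiv (N : ModSite.Mod O) :
    ((ModSite.quotOn O U).obj M ⟶ N) ≃+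
      (ToposFin.quotZ (ToposFin.eps J U) ⟶ ModSite.toAb ((ModSite.sheafHom M).obj N)) where
  toFun φ := cokernel.desc _ (globEquiv M N ((ModSite.quotOnπ O U).app M ≫ φ))
    ((fr_map_globEquiv_eps_iff M U _).2
      ((Category.assoc _ _ _).symm.trans ((congrArg (· ≫ φ) (cokernel.condition _)).trans zero_comp)))
  invFun ψ := cokernel.desc _ ((globEquiv M N).symm (cokernel.π _ ≫ ψ))
    ((fr_map_globEquiv_eps_iff M U _).1 (by
      rw [AddEquiv.apply_symm_apply, ← Category.assoc]
      exact (congrArg (· ≫ ψ) (cokernel.condition _)).trans zero_comp))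
  left_inv φ := by
    apply (cancel_epi ((ModSite.quotOnπ O U).app M)).1
    refine (cokernel.π_desc _ _ _).trans ?_
    rw [cokernel.π_desc, AddEquiv.symm_apply_apply]
  right_inv ψ := by
    apply coequalizer.hom_ext
    refine (cokernel.π_desc _ _ _).trans ?_
    refine (congrArg (globEquiv M N) (cokernel.π_desc _ _ _)).trans ?_
    rw [AddEquiv.apply_symm_apply]
  map_add' φ φ' := by
    apply coequalizer.hom_ext
    refine (cokernel.π_desc _ _ _).trans ?_
    rw [Preadditive.comp_add, map_add]
    exact ((congrArg₂ (· + ·) (cokernel.π_desc _ _ _) (cokernel.π_desc _ _ _)).symm.trans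
      (Preadditive.comp_add _ _ _ _ _ _).symm)

theorem quotHomEquiv_natural {N N' : ModSite.Mod O} (φ : (ModSite.quotOn O U).obj M ⟶ N) (g : N ⟶ N') :
    quotHomEquiv M U N' (φ ≫ g) = quotHomEquiv M U N φ ≫ (SheafOfModules.toSheaf _).map ((ModSite.sheafHom M).map g) := by
  apply coequalizer.hom_ext
  refine (cokernel.π_desc _ _ _).trans ?_
  refine Eq.trans ?_ ((congrArg (· ≫ _) (cokernel.π_desc _ _ _)).symm.trans (Category.assoc _ _ _))
  rw [← globEquiv_natural, Category.assoc]

end Groth.L15.ExtSupp
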